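import Groth.Agent.GrothBddLib.RankStrat
import Mathlib.RingTheory.Polynomial.HilbertPoly
import Mathlib.Analysis.Polynomial.Basic
import Mathlib.Algebra.Polynomial.Taylor
import Mathlib.Analysis.SpecificLimits.Basic

/-!
# Grothendieck's lemma for graded modules: finitely many Hilbert polynomials
-/

set_option autoImplicit false
set_option linter.unusedSectionVars false
set_option maxHeartbeats 800000

universe u

open Polynomial Filter

noncomputable section

namespace Groth.Agent.GrothBddLib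

theorem coeff_nonneg_of_eventually {P : ℚ[X]} {n : ℕ} (hd : P.natDegree ≤ n)
    (h : ∀ᶠ t : ℕ in atTop, (0 : ℚ) ≤ P.eval (t : ℚ)) : 0 ≤ P.coeff n := by
  by_contra hneg
  rw [not_le] at hneg
  have hnat : P.natDegree = n := le_antisymm hd (le_natDegree_of_ne_zero hneg.ne)
  rcases Nat.eq_zero_or_pos n with rfl | hn
  · obtain ⟨t, ht⟩ := h.exists
    rw [eq_C_of_natDegree_eq_zero hnat, eval_C] at ht
    linarith
  · have hlc : P.leadingCoeff ≤ 0 := by rw [leadingCoeff, hnat]; exact hneg.le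
    have h' := ((P.tendsto_atBot_of_leadingCoeff_nonpos
      (natDegree_pos_iff_degree_pos.1 (by rwa [hnat])) hlc).comp tendsto_natCast_atTop_atTop).eventually_lt_atBot 0
    obtain ⟨t, ht, ht'⟩ := (h.and h').exists
    exact absurd ht (not_le.2 ht')

theorem comp_shift_coeff {P : ℚ[X]} {e : ℕ} (hd : P.natDegree ≤ e + 1) (J : ℚ) :
    (P.comp (Polynomial.X + C J)).natDegree ≤ e + 1 ∧ (P.comp (Polynomial.X + C J)).coeff (e + 1) = P.coeff (e + 1) ∧
      (P.comp (Polynomial.X + C J)).coeff e = P.coeff e + ((e : ℚ) + 1) * P.coeff (e + 1) * J := by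
  rw [← Polynomial.taylor_apply]
  refine ⟨by rw [natDegree_taylor]; exact hd, ?_, ?_⟩
  · rw [Polynomial.taylor_coeff, eval_eq_sum_range' (n := 1) (by
      have := natDegree_hasseDeriv_le P (e + 1); omega)]
    simp [hasseDeriv_coeff]
  · rw [Polynomial.taylor_coeff, eval_eq_sum_range' (n := 2) (by
      have := natDegree_hasseDeriv_le P e; omega)]
    simp [Finset.sum_range_succ, hasseDeriv_coeff, add_comm 1 e, Nat.choose_succ_self_right]

/-- The Hilbert polynomial of the polynomial ring. -/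
theorem card_sym_eval (e t : ℕ) :
    (Fintype.card (Sym (Fin (e + 2)) t) : ℚ) = (preHilbertPoly ℚ (e + 1) 0).eval (t : ℚ) := by
  rw [preHilbertPoly_eq_choose_sub_add ℚ _ (Nat.zero_le t), Sym.card_sym_eq_choose, Fintype.card_fin, Nat.sub_zero,
    show e + 2 + t - 1 = t + (e + 1) by omega, Nat.choose_symm_add]

variable {K : Type u} [Field K] {σ : Type} [Fintype σ] [DecidableEq σ] {m : ℕ}

/-- The matrix attached to a basis. -/
theorem exists_matrix {N : Submodule (MvPolynomial σ K) (Fin m → MvPolynomial σ K)} (hsat : IsSat N)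
    {J : Finset (Fin m)} (hind : ∀ c : Fin m → MvPolynomial σ K, (∀ i, i ∉ J → c i = 0) → c ∈ N → c = 0)
    {b : Fin m → MvPolynomial σ K} {ε : Fin m → ℕ} {a : Fin m → Fin m → MvPolynomial σ K}
    (hb : ∀ j, b j ≠ 0) (hbh : ∀ j, (b j).IsHomogeneous (ε j)) (ha : ∀ j i, i ∉ J → a j i = 0)
    (hah : ∀ j i, (a j i).IsHomogeneous (ε j))
    (hab : ∀ j, b j • (Pi.single j 1 : Fin m → MvPolynomial σ K) - a j ∈ N) (v : σ) {D : ℕ} (hD : ∑ j, ε j ≤ D) :
    ∃ A : Fin m → Fin m → MvPolynomial σ K, (∀ i j, (A i j).IsHomogeneous D) ∧ LinearMap.ker (mulA A) = N ∧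
      ∀ i j, i ∉ J → A i j = 0 := by
  classical
  let E := ∑ j, ε j
  let c : Fin m → MvPolynomial σ K := fun j => MvPolynomial.X v ^ (D - E) * ∏ l ∈ Finset.univ.erase j, b l
  let f : MvPolynomial σ K := MvPolynomial.X v ^ (D - E) * ∏ l, b l
  have hf : f ≠ 0 := mul_ne_zero (pow_ne_zero _ (MvPolynomial.X_ne_zero v)) (Finset.prod_ne_zero_iff.2 fun l _ => hb l)
  have hcb : ∀ j, c j * b j = f := fun j => by
    simp only [c, f]
    rw [mul_assoc, Finset.prod_erase_mul _ _ (Finset.mem_univ j)]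
  refine ⟨fun i j => c j * a j i, fun i j => ?_, ?_, fun i j hi => show c j * a j i = 0 by rw [ha j i hi, mul_zero]⟩
  · have h1 : (c j).IsHomogeneous (D - E + ∑ l ∈ Finset.univ.erase j, ε l) :=
      (MvPolynomial.isHomogeneous_X_pow v _).mul (MvPolynomial.IsHomogeneous.prod _ _ _ fun l _ => hbh l)
    have h2 := h1.mul (hah j i)
    have h3 : ∑ l ∈ Finset.univ.erase j, ε l + ε j = E := Finset.sum_erase_add _ _ (Finset.mem_univ j)
    rwa [show D - E + ∑ l ∈ Finset.univ.erase j, ε l + ε j = D by omega] at h2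
  have key : ∀ x : Fin m → MvPolynomial σ K, f • x - mulA (fun i j => c j * a j i) x ∈ N := by
    intro x
    have : f • x - mulA (fun i j => c j * a j i) x =
        ∑ j, (x j * c j) • (b j • (Pi.single j 1 : Fin m → MvPolynomial σ K) - a j) := by
      funext i
      simp only [Pi.sub_apply, Pi.smul_apply, smul_eq_mul, Finset.sum_apply, mul_sub, Finset.sum_sub_distrib]
      congr 1
      · rw [Finset.sum_eq_single i]
        · rw [Pi.single_eq_same, mul_one, mul_assoc (x i), hcb, mul_comm]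
        · intro j _ hji
          rw [Pi.single_eq_of_ne (Ne.symm hji), mul_zero, mul_zero]
        · simp
      · show ∑ j, c j * a j i * x j = _
        exact Finset.sum_congr rfl fun j _ => by ring
    rw [this]
    exact N.sum_mem fun j _ => N.smul_mem _ (hab j)
  ext x
  rw [LinearMap.mem_ker]
  refine ⟨fun h => hsat f x hf ?_, fun h => hind _ (fun i hi => show (∑ j, c j * a j i * x j) = 0 from Finset.sum_eq_zero fun j _ => ?_) ?_⟩
  · simpa [h] using key x
  · rw [ha j i hi, mul_zero, zero_mul]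
  · simpa using N.sub_mem (N.smul_mem f h) (key x)

/-- Grothendieck's lemma, graded form. -/
theorem finite_hilbPolys (e m : ℕ) (δ : ℚ) :
    {Ψ : ℚ[X] | ∃ (K : Type u) (_ : Field K)
      (N : Submodule (MvPolynomial (Fin (e + 2)) K) (Fin m → MvPolynomial (Fin (e + 2)) K)),
      IsGraded N ∧ IsSat N ∧ Ψ.natDegree ≤ e + 1 ∧ Ψ.coeff e ≤ δ ∧
      ∀ᶠ t : ℕ in atTop, (Module.finrank K (qPiece N t) : ℚ) = Ψ.eval (t : ℚ)}.Finite := by
  classical
  set H := preHilbertPoly ℚ (e + 1) 0
  let Bε : ℕ := ⌈(e.factorial : ℚ) * (δ + m * |H.coeff e|)⌉₊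
  obtain ⟨S, hS, hmem⟩ := finite_rank_functions.{u} (Fin (e + 2)) m (m * Bε)
  refine (hS.biUnion (t := fun f => {Ψ : ℚ[X] | ∀ᶠ t : ℕ in atTop, (f t : ℚ) = Ψ.eval (t : ℚ)}) fun f _ => ?_).subset ?_
  · refine Set.Subsingleton.finite fun Ψ hΨ Φ hΦ => Polynomial.eq_of_infinite_eval_eq Ψ Φ ?_
    obtain ⟨N, hN⟩ := eventually_atTop.1 (hΨ.and hΦ)
    refine Set.infinite_of_injective_forall_mem (f := fun t : ℕ => ((N + t : ℕ) : ℚ))
      (fun a b h => by simpa using h) fun t => ?_
    exact (hN _ (Nat.le_add_right N t)).1.symm.trans (hN _ (Nat.le_add_right N t)).2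
  rintro Ψ ⟨K, _, N, hgr, hsat, hdeg, hδ, hev⟩
  obtain ⟨J, b, ε, a, hind, h⟩ := exists_basis hgr hsat
  choose hb hbh ha hah hab hdvd using h
  obtain ⟨A₀, hA₀, hker₀, hJ₀⟩ := exists_matrix hsat hind hb hbh ha hah hab 0 le_rfl
  have hHd : H.natDegree = e + 1 := natDegree_preHilbertPoly ℚ (e + 1) 0
  have hHtop : H.coeff (e + 1) = ((e + 1).factorial : ℚ)⁻¹ := coeff_preHilbertPoly_self ℚ (e + 1) 0
  have hup : Ψ.coeff (e + 1) ≤ (J.card : ℚ) * H.coeff (e + 1) := by
    obtain ⟨s1, s2, -⟩ := comp_shift_coeff hHd.le ((∑ j, ε j : ℕ) : ℚ)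
    have := coeff_nonneg_of_eventually (n := e + 1)
      (P := C (J.card : ℚ) * H.comp (Polynomial.X + C ((∑ j, ε j : ℕ) : ℚ)) - Ψ)
      ((natDegree_sub_le _ _).trans (max_le ((natDegree_C_mul_le _ _).trans s1) hdeg)) (by
        filter_upwards [hev] with t ht
        have h1 := finrank_qPiece_le A₀ hA₀ hker₀ hJ₀ t
        simp only [eval_sub, eval_mul, eval_C, eval_comp, eval_add, eval_X, sub_nonneg]
        rw [← ht, ← Nat.cast_add, ← card_sym_eval]
        exact_mod_cast h1)
    rw [coeff_sub, coeff_C_mul, s2] at this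
    linarith
  have hε : ∀ j, ε j ≤ Bε := by
    intro j
    by_cases hj : j ∈ J
    · obtain ⟨q, hq⟩ := hdvd j 1 ⟨Pi.single j 1, fun i hi => by
        rw [Pi.single_eq_of_ne]
        rintro rfl
        exact hi hj, by simp⟩
      have hq0 : q ≠ 0 := fun h => one_ne_zero (hq.trans (by rw [h, mul_zero]))
      have h1 := MvPolynomial.totalDegree_mul_of_isDomain (hb j) hq0
      rw [← hq, MvPolynomial.totalDegree_one, (hbh j).totalDegree (hb j)] at h1
      omega
    · obtain ⟨s1, s2, s3⟩ := comp_shift_coeff hHd.le (-(ε j : ℚ))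
      set P := Ψ + H.comp (Polynomial.X + C (-(ε j : ℚ))) - C ((J.card : ℚ) + 1) * H with hPdef
      have hPd : P.natDegree ≤ e + 1 := (natDegree_sub_le _ _).trans (max_le
        ((natDegree_add_le _ _).trans (max_le hdeg s1)) ((natDegree_C_mul_le _ _).trans hHd.le))
      have hPev : ∀ᶠ t : ℕ in atTop, (0 : ℚ) ≤ P.eval (t : ℚ) := by
        filter_upwards [hev, eventually_ge_atTop (ε j)] with t ht hεt
        have h1 := le_finrank_qPiece hind hj (hb j) (hbh j) (hdvd j) t hεt
        simp only [P, eval_sub, eval_mul, eval_C, eval_comp, eval_add, eval_X, sub_nonneg]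
        rw [← ht, ← sub_eq_add_neg, ← Nat.cast_sub hεt, ← card_sym_eval, ← card_sym_eval]
        exact_mod_cast h1
      have hPtop := coeff_nonneg_of_eventually hPd hPev
      have hPtop0 : P.coeff (e + 1) = 0 := by
        rw [hPdef, coeff_sub, coeff_add, coeff_C_mul, s2] at hPtop ⊢
        linarith
      have hPsub := coeff_nonneg_of_eventually (n := e) (natDegree_le_iff_coeff_eq_zero.2 fun i hi => by
        rcases Nat.lt_or_ge (e + 1) i with h' | h'
        · exact coeff_eq_zero_of_natDegree_lt (by omega)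
        · rwa [show i = e + 1 by omega]) hPev
      rw [hPdef, coeff_sub, coeff_add, coeff_C_mul, s3, hHtop, Nat.factorial_succ] at hPsub
      push_cast at hPsub
      have hfac : (0 : ℚ) < e.factorial := by exact_mod_cast Nat.factorial_pos e
      have h2 : ((e : ℚ) + 1) * (((e : ℚ) + 1) * e.factorial)⁻¹ = (e.factorial : ℚ)⁻¹ := by field_simp
      have h3 : (ε j : ℚ) * (e.factorial : ℚ)⁻¹ ≤ δ - J.card * H.coeff e := by
        rw [← h2]; nlinarith [hPsub, hδ]
      have h4 : -((J.card : ℚ) * H.coeff e) ≤ m * |H.coeff e| := by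
        have hJm : (J.card : ℚ) ≤ m := by exact_mod_cast card_finset_fin_le J
        nlinarith [neg_abs_le (H.coeff e), abs_nonneg (H.coeff e), (Nat.cast_nonneg J.card : (0 : ℚ) ≤ J.card)]
      have h5 : (ε j : ℚ) ≤ (e.factorial : ℚ) * (δ + m * |H.coeff e|) := by
        rw [mul_inv_le_iff₀ hfac] at h3
        nlinarith
      exact_mod_cast h5.trans (Nat.le_ceil _)
  obtain ⟨A, hA, hker, -⟩ := exists_matrix hsat hind hb hbh ha hah hab 0 (D := m * Bε)
    ((Finset.sum_le_sum fun j _ => hε j).trans (by simp))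
  refine Set.mem_biUnion (hmem K A hA) ?_
  filter_upwards [hev] with t ht
  rw [← ht, finrank_qPiece_eq_rank A hA hker]

end Groth.Agent.GrothBddLib
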