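import Groth.Agent.GrothBddLib.GradedSub

/-!
# Top components of products
-/

set_option autoImplicit false
set_option linter.unusedSectionVars false

universe u

open MvPolynomial

noncomputable section

namespace Groth.Agent.GrothBddLib

variable {K : Type u} [Field K] {σ : Type} [Finite σ]

theorem hc_mul_top {p g : MvPolynomial σ K} {t : ℕ} (hp : ∀ r, t < r → homogeneousComponent r p = 0) :
    homogeneousComponent (t + g.totalDegree) (p * g) =
      homogeneousComponent t p * homogeneousComponent g.totalDegree g := by
  have e₀ : p * g = ∑ j ∈ Finset.range (g.totalDegree + 1), p * homogeneousComponent j g := by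
    rw [← Finset.mul_sum, sum_homogeneousComponent]
  rw [e₀, map_sum]
  have h : ∀ j ∈ Finset.range (g.totalDegree + 1),
      homogeneousComponent (t + g.totalDegree) (p * homogeneousComponent j g) =
        if j = g.totalDegree then homogeneousComponent t p * homogeneousComponent g.totalDegree g else 0 := by
    intro j hj
    have hj' : j < g.totalDegree + 1 := Finset.mem_range.1 hj
    split_ifs with h
    · subst h
      exact hc_mul (homogeneousComponent_isHomogeneous _ g) t
    · have e : t + g.totalDegree = (t + g.totalDegree - j) + j := (Nat.sub_add_cancel (by omega)).symm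
      rw [e, hc_mul (homogeneousComponent_isHomogeneous j g), hp (t + g.totalDegree - j) (by omega), zero_mul]
  rw [Finset.sum_congr rfl h, Finset.sum_ite_eq', if_pos (Finset.self_mem_range_succ _)]

theorem topComponent_ne_zero {g : MvPolynomial σ K} (hg : g ≠ 0) :
    homogeneousComponent g.totalDegree g ≠ 0 := by
  obtain ⟨β, hβ, hβd⟩ := Finset.exists_mem_eq_sup g.support (support_nonempty.2 hg) fun s => s.sum fun _ n => n
  intro h0
  have h2 := congrArg (coeff β) h0
  rw [coeff_homogeneousComponent, if_pos (by rw [Finsupp.degree_apply]; exact hβd.symm), coeff_zero] at h2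
  exact (mem_support_iff.1 hβ) h2

end Groth.Agent.GrothBddLib
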