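import Groth.Agent.GrothBddLib.Gen
import Groth.Agent.GrothBddLib.GradedFinite
import Groth.Agent.GrothBddLib.GradedTop
import Groth.Prelude.Def_ShStab

/-!
# Pure quotients of regular modules as torsion-free graded modules
-/

set_option autoImplicit false
set_option backward.isDefEq.respectTransparency false
set_option linter.style.haveILetI false
set_option linter.unusedSectionVars false
set_option maxHeartbeats 800000

universe u

open CategoryTheory CategoryTheory.Limits AlgebraicGeometry Filter MvPolynomial
open Groth.Agent.CMRegLib Groth.Agent.DCohLib Groth.Agent.PullbackMod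

noncomputable section

namespace Groth.Agent.GrothBddLib

variable {k : Type u} [Field k] {n : ℕ}

local notation "PS" => CohB1.ProjSpace n k
local notation "O(" d ")" => Twist.twistProjSpace n k d

local instance : IsProper (PS ↘ Spec (CommRingCat.of k)) := CompleteCurve.isProper_toSpec n k

variable {d : ℕ} (c : Fin (d + 1) → Fin (n + 1) → k) {W : Scheme.Modules (CohB1.ProjSpace n k)}

theorem act_ins_component (p : MvPolynomial (Fin (d + 1)) k) (s : Γ(obj W 0, ⊤)) (t : ℕ) :
    act W c p (ins W 0 s) t = act W c (homogeneousComponent t p) (ins W 0 s) t := by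
  obtain ⟨e, rfl⟩ : ∃ e, t = 0 + e := ⟨t, (Nat.zero_add t).symm⟩
  refine topLin_ext fun x => ?_
  obtain ⟨i, hx⟩ := exists_mem (k := k) (n := n) x
  refine (germ_act W c p s hx e).trans (Eq.trans ?_ (germ_act W c _ s hx e).symm)
  have : homogeneousComponent e (homogeneousComponent (0 + e) p) = homogeneousComponent e p := by
    rw [Nat.zero_add, homogeneousComponent_eq_self (homogeneousComponent_isHomogeneous e p)]
  rw [this]

theorem act_ins_other {p : MvPolynomial (Fin (d + 1)) k} {a t : ℕ} (hp : p.IsHomogeneous a) (h : t ≠ a)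
    (s : Γ(obj W 0, ⊤)) : act W c p (ins W 0 s) t = 0 := by
  rw [act_ins_component, homogeneousComponent_of_mem hp, if_neg h, map_zero]
  rfl

variable (W) {m : ℕ} (f : Fin m → Γ(obj W 0, ⊤))

/-- The graded map out of a free module. -/
def psi : (Fin m → MvPolynomial (Fin (d + 1)) k) →ₗ[k] Tot W where
  toFun x := ∑ i, act W c (x i) (ins W 0 (f i))
  map_add' x y := by simp [Finset.sum_add_distrib]
  map_smul' r x := by simp [Finset.smul_sum]

theorem psi_smul (g : MvPolynomial (Fin (d + 1)) k) (x : Fin m → MvPolynomial (Fin (d + 1)) k) :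
    psi c W f (g • x) = act W c g (psi c W f x) := by
  show ∑ i, act W c ((g • x) i) (ins W 0 (f i)) = act W c g (∑ i, act W c (x i) (ins W 0 (f i)))
  rw [map_sum]
  refine Finset.sum_congr rfl fun i _ => ?_
  rw [Pi.smul_apply, smul_eq_mul, map_mul]
  rfl

/-- Its kernel. -/
def kerSub : Submodule (MvPolynomial (Fin (d + 1)) k) (Fin m → MvPolynomial (Fin (d + 1)) k) where
  carrier := {x | psi c W f x = 0}
  add_mem' := fun {a b} ha hb => by
    show psi c W f (a + b) = 0
    rw [map_add, ha, hb, add_zero]
  zero_mem' := map_zero _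
  smul_mem' := fun g x hx => by
    show psi c W f (g • x) = 0
    rw [psi_smul, hx, map_zero]

theorem mem_kerSub {x : Fin m → MvPolynomial (Fin (d + 1)) k} : x ∈ kerSub c W f ↔ psi c W f x = 0 := Iff.rfl

theorem psi_apply (x : Fin m → MvPolynomial (Fin (d + 1)) k) (t : ℕ) :
    psi c W f x t = ∑ i, act W c (x i) (ins W 0 (f i)) t :=
  Finset.sum_apply t Finset.univ fun i => act W c (x i) (ins W 0 (f i))

theorem psi_component (x : Fin m → MvPolynomial (Fin (d + 1)) k) (t : ℕ) :
    psi c W f (fun i => homogeneousComponent t (x i)) = ins W t (psi c W f x t) := by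
  funext r
  rw [psi_apply]
  rcases eq_or_ne r t with rfl | h
  · rw [ins_same, psi_apply]
    exact Finset.sum_congr rfl fun i _ => (act_ins_component c (x i) (f i) r).symm
  · rw [ins_ne W h]
    exact Finset.sum_eq_zero fun i _ => act_ins_other c (homogeneousComponent_isHomogeneous t (x i)) h (f i)

theorem psi_piece {x : Fin m → MvPolynomial (Fin (d + 1)) k} {t : ℕ} (hx : x ∈ piece k (Fin (d + 1)) m t) :
    psi c W f x = ins W t (psi c W f x t) := by
  conv_lhs => rw [show x = fun i => homogeneousComponent t (x i) from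
    funext fun i => (homogeneousComponent_eq_self (mem_piece.1 hx i)).symm]
  exact psi_component c W f x t

theorem isGraded_kerSub : IsGraded (kerSub c W f) := fun x hx t => by
  rw [mem_kerSub, psi_component, (mem_kerSub c W f).1 hx]
  exact Pi.single_zero _

theorem finrank_qPiece_kerSub (t : ℕ) :
    Module.finrank k (qPiece (kerSub c W f) t) =
      Module.finrank k ((piece k (Fin (d + 1)) m t).map ((LinearMap.proj t).comp (psi c W f))) := by
  let a := ((kerSub c W f).mkQ.restrictScalars k).comp (piece k (Fin (d + 1)) m t).subtype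
  let b := ((LinearMap.proj t).comp (psi c W f)).comp (piece k (Fin (d + 1)) m t).subtype
  have h1 : qPiece (kerSub c W f) t = LinearMap.range a := by
    rw [qPiece, LinearMap.range_comp, Submodule.range_subtype]
  have h2 : (piece k (Fin (d + 1)) m t).map ((LinearMap.proj t).comp (psi c W f)) = LinearMap.range b :=
    ((LinearMap.range_comp _ _).trans (by rw [Submodule.range_subtype])).symm
  have h3 : LinearMap.ker a = LinearMap.ker b := by
    ext x
    show Submodule.Quotient.mk x.1 = 0 ↔ psi c W f x.1 t = 0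
    rw [Submodule.Quotient.mk_eq_zero, mem_kerSub]
    refine ⟨fun h => congr_fun h t, fun h => ?_⟩
    rw [psi_piece c W f x.2, h]
    exact Pi.single_zero _
  rw [h1, h2, ← (LinearMap.quotKerEquivRange a).finrank_eq, ← (LinearMap.quotKerEquivRange b).finrank_eq, h3]

theorem isSat_of_homogeneous {N : Submodule (MvPolynomial (Fin (d + 1)) k) (Fin m → MvPolynomial (Fin (d + 1)) k)}
    (hgr : IsGraded N)
    (h : ∀ (g : MvPolynomial (Fin (d + 1)) k) (a t : ℕ) (x : Fin m → MvPolynomial (Fin (d + 1)) k),
      g.IsHomogeneous a → g ≠ 0 → x ∈ piece k (Fin (d + 1)) m t → g • x ∈ N → x ∈ N) : IsSat N := by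
  intro g x hg hgx
  suffices ∀ (D : ℕ) (y : Fin m → MvPolynomial (Fin (d + 1)) k),
      (∀ i s, D ≤ s → homogeneousComponent s (y i) = 0) → g • y ∈ N → y ∈ N from
    this (Finset.univ.sup (fun i => (x i).totalDegree) + 1) x (fun i s hs => homogeneousComponent_eq_zero (h := by
      have := Finset.le_sup (f := fun i => (x i).totalDegree) (Finset.mem_univ i)
      omega)) hgx
  intro D
  induction D with
  | zero =>
    intro y hy _
    have : y = 0 := _root_.funext fun i => by
      rw [← sum_homogeneousComponent (y i)]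
      exact Finset.sum_eq_zero fun s _ => hy i s (Nat.zero_le s)
    rw [this]
    exact zero_mem N
  | succ D ih =>
    intro y hy hgy
    let yt : Fin m → MvPolynomial (Fin (d + 1)) k := fun i => homogeneousComponent D (y i)
    have e : homogeneousComponent g.totalDegree g • yt =
        fun i => homogeneousComponent (D + g.totalDegree) ((g • y) i) := _root_.funext fun i => by
      show homogeneousComponent g.totalDegree g * homogeneousComponent D (y i) = homogeneousComponent _ (g * y i)
      rw [mul_comm g, hc_mul_top fun r hr => hy i r hr, mul_comm]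
    have hyt : yt ∈ N := h (homogeneousComponent g.totalDegree g) g.totalDegree D yt
      (homogeneousComponent_isHomogeneous _ g) (topComponent_ne_zero hg)
      (mem_piece.2 fun i => homogeneousComponent_isHomogeneous D (y i)) (e ▸ hgr _ hgy (D + g.totalDegree))
    have hlow : y - yt ∈ N := ih (y - yt) (fun i s hs => by
      show homogeneousComponent s (y i - homogeneousComponent D (y i)) = 0
      rw [map_sub, homogeneousComponent_of_mem (homogeneousComponent_isHomogeneous D (y i))]
      rcases eq_or_ne s D with rfl | hne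
      · rw [if_pos rfl, sub_self]
      · rw [if_neg hne, sub_zero]
        exact hy i s (by omega)) (by rw [smul_sub]; exact N.sub_mem hgy (N.smul_mem g hyt))
    rw [← sub_add_cancel y yt]
    exact N.add_mem hlow hyt

variable {W}

/-- The ratio of a form is a nonzerodivisor on a stalk. -/
def RegForm (W : Scheme.Modules (CohB1.ProjSpace n k)) (g : MvPolynomial (Fin (d + 1)) k) (t : ℕ) : Prop :=
  ∀ (i : Fin (n + 1)) (x : PS) (hx : x ∈ AmpleEmb.stdOpen n k i) (z : (obj W t).presheaf.stalk x),
    (PS).presheaf.germ _ x hx (formRatio c i g) • z = 0 → z = 0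

theorem regForm_transfer {g : MvPolynomial (Fin (d + 1)) k} (h : RegForm c W g 0) (t : ℕ) : RegForm c W g t := by
  obtain ⟨e, rfl⟩ : ∃ e, t = 0 + e := ⟨t, (Nat.zero_add t).symm⟩
  intro i x hx z hz
  obtain ⟨y, rfl⟩ := (bijective_bpow W 0 hx e).2 z
  rw [h i x hx y ((bijective_bpow W 0 hx e).1 (by rw [map_smul, hz, map_zero])), map_zero]

theorem isSat_kerSub (h : ∀ (g : MvPolynomial (Fin (d + 1)) k) (a : ℕ), g.IsHomogeneous a → g ≠ 0 → RegForm c W g 0) :
    IsSat (kerSub c W f) := by
  refine isSat_of_homogeneous (isGraded_kerSub c W f) fun g a t x hga hg hx hgx => ?_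
  rw [mem_kerSub, psi_piece c W f hx]
  rw [mem_kerSub, psi_smul, psi_piece c W f hx] at hgx
  suffices psi c W f x t = 0 by rw [this]; exact Pi.single_zero _
  refine topLin_ext fun y => ?_
  obtain ⟨i, hy⟩ := exists_mem (k := k) (n := n) y
  rw [map_zero]
  have h1 := germ_act W c g (psi c W f x t) hy a
  rw [congr_fun hgx (t + a), homogeneousComponent_eq_self hga] at h1
  refine regForm_transfer c (h g a hga hg) t i y hy _ ((bijective_bpow W t hy a).1 ?_)
  rw [map_smul, map_zero, ← h1]
  exact map_zero ((obj W (t + a)).presheaf.germ ⊤ y trivial).hom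

theorem finrank_map_le {M V : Type u} [AddCommGroup M] [Module k M] [AddCommGroup V] [Module k V] (φ : M →ₗ[k] V)
    {S T : Submodule k M} (h : S ≤ T) [FiniteDimensional k T] :
    Module.finrank k (T.map φ) + Module.finrank k S ≤ Module.finrank k (S.map φ) + Module.finrank k T := by
  haveI : FiniteDimensional k S := Submodule.finiteDimensional_of_le h
  have e1 := (φ.comp T.subtype).finrank_range_add_finrank_ker
  have e2 := (φ.comp S.subtype).finrank_range_add_finrank_ker
  rw [LinearMap.range_comp, Submodule.range_subtype] at e1 e2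
  have e3 : Module.finrank k (LinearMap.ker (φ.comp S.subtype)) ≤ Module.finrank k (LinearMap.ker (φ.comp T.subtype)) := by
    refine LinearMap.finrank_le_finrank_of_injective
      (f := (Submodule.inclusion h).restrict (p := LinearMap.ker (φ.comp S.subtype))
        (q := LinearMap.ker (φ.comp T.subtype)) fun x hx => hx) fun a b hab => ?_
    exact Subtype.ext (Submodule.inclusion_injective h (congrArg Subtype.val hab))
  omega

/-- A subsheaf killed by a form has few sections. -/
theorem finrank_killed_le (hW : Coh.IsCoh W) {g : MvPolynomial (Fin (d + 1)) k} {a : ℕ} (hga : g.IsHomogeneous a)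
    (hg : g ≠ 0) {K : (PS).Modules} (ι : K ⟶ W) [Mono ι]
    (hι : ∀ (i : Fin (n + 1)) (x : PS) (hx : x ∈ AmpleEmb.stdOpen n k i) (z : K.presheaf.stalk x),
      (PS).presheaf.germ _ x hx (formRatio c i g) • stalkLin ι x z = 0) (t : ℕ)
    (hs : (piece k (Fin (d + 1)) m (t + a)).map ((LinearMap.proj (t + a)).comp (psi c W f)) = ⊤) :
    Module.finrank k Γ(obj K t, ⊤) + Module.finrank k Γ(obj W (t + a), ⊤) + m * Fintype.card (Sym (Fin (d + 1)) t) ≤
      Module.finrank k Γ(obj W t, ⊤) + m * Fintype.card (Sym (Fin (d + 1)) (t + a)) := by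
  haveI := isNoetherian_projSpace (k := k) (n := n)
  haveI := finite_sections (isCoh_twistBy hW (t : ℤ))
  haveI := finite_sections (isCoh_twistBy hW ((t + a : ℕ) : ℤ))
  let T : Γ(obj W t, ⊤) →ₗ[k] Γ(obj W (t + a), ⊤) :=
    (LinearMap.proj (t + a)).comp ((act W c g).comp (LinearMap.single k (fun r => Γ(obj W r, ⊤)) t))
  have hT : ∀ u, T u = act W c g (ins W t u) (t + a) := fun u => rfl
  have hkill : ∀ v : Γ(obj K t, ⊤), topLin (twMap (t : ℤ) ι) v ∈ LinearMap.ker T := by
    intro v
    rw [LinearMap.mem_ker, hT]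
    refine topLin_ext fun x => ?_
    obtain ⟨i, hx⟩ := exists_mem (k := k) (n := n) x
    rw [germ_act W c g _ hx a, homogeneousComponent_eq_self hga, germ_topLin, ← map_smul]
    refine Eq.trans (congrArg (stalkLin (bpow W i t a) x) ?_)
      ((map_zero _).trans (map_zero ((obj W (t + a)).presheaf.germ ⊤ x trivial).hom).symm)
    have h0 := stalkLin_tensR (t : ℤ) (0 : K ⟶ W) ι x ((PS).presheaf.germ _ x hx (formRatio c i g))
      (fun z => by rw [DevLib.stalkLin_zero, LinearMap.zero_apply, hι i x hx z]) ((obj K t).presheaf.germ ⊤ x trivial v)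
    refine h0.symm.trans ?_
    show stalkLin ((CurveLib.tensR (O((t : ℤ)))).map (0 : K ⟶ W)) x _ = 0
    rw [Functor.map_zero, DevLib.stalkLin_zero, LinearMap.zero_apply]
  have hinj : Function.Injective (topLin (twMap (t : ℤ) ι)) := by
    intro v w hvw
    haveI : Mono (twMap (t : ℤ) ι) := (shortExact_twSeq (shortExact_coker ι) (t : ℤ)).mono_f
    refine topLin_ext fun x => (mono_iff_stalk (twMap (t : ℤ) ι)).1 inferInstance x ?_
    rw [← germ_topLin, ← germ_topLin, hvw]
  have e1 : Module.finrank k Γ(obj K t, ⊤) ≤ Module.finrank k (LinearMap.ker T) :=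
    LinearMap.finrank_le_finrank_of_injective (f := (topLin (twMap (t : ℤ) ι)).codRestrict _ hkill)
      fun v w h => hinj (congrArg Subtype.val h)
  have e2 := T.finrank_range_add_finrank_ker
  let S := (piece k (Fin (d + 1)) m t).map
    ((LinearMap.lsmul (MvPolynomial (Fin (d + 1)) k) (Fin m → MvPolynomial (Fin (d + 1)) k) g).restrictScalars k)
  have hS : S ≤ piece k (Fin (d + 1)) m (t + a) := by
    rintro _ ⟨x, hx, rfl⟩
    refine mem_piece.2 fun i => ?_
    show (g * x i).IsHomogeneous (t + a)
    rw [add_comm t a]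
    exact hga.mul (mem_piece.1 hx i)
  have e3 := finrank_map_le ((LinearMap.proj (t + a)).comp (psi c W f)) hS
  have e4 : S.map ((LinearMap.proj (t + a)).comp (psi c W f)) ≤ LinearMap.range T := by
    rintro _ ⟨_, ⟨x, hx, rfl⟩, rfl⟩
    refine ⟨psi c W f x t, ?_⟩
    rw [hT, ← psi_piece c W f hx, ← psi_smul]
    rfl
  have e5 := Submodule.finrank_mono e4
  have e6 : Module.finrank k S = Module.finrank k (piece k (Fin (d + 1)) m t) :=
    (Submodule.equivMapOfInjective
      ((LinearMap.lsmul (MvPolynomial (Fin (d + 1)) k) (Fin m → MvPolynomial (Fin (d + 1)) k) g).restrictScalars k)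
      (fun x y h => _root_.funext fun i => mul_left_cancel₀ hg (congr_fun (show g • x = g • y from h) i))
      (piece k (Fin (d + 1)) m t)).finrank_eq.symm
  have e7 : ∀ r, Module.finrank k (piece k (Fin (d + 1)) m r) = m * Fintype.card (Sym (Fin (d + 1)) r) := fun r => by
    rw [← pieceOn_univ, finrank_pieceOn, Finset.card_univ, Fintype.card_fin]
  rw [hs, finrank_top, e6, e7, e7] at e3
  omega

theorem eventually_piece_surjective [Infinite k] {e : ℕ} {E F : (PS).Modules} (hE : Coh.IsCoh E) (hF : Coh.IsCoh F)
    (q : E ⟶ F) [Epi q] (c : Fin (e + 1) → Fin (n + 1) → k)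
    (hc : ∀ (t : ℕ) (s : Γ(obj E (t + 1), ⊤)), ∃ z : Fin (e + 1) → Γ(obj E t, ⊤),
      s = ∑ v, topLin (lmap (c v) E t) (z v))
    {m : ℕ} (b : Module.Basis (Fin m) k Γ(obj E 0, ⊤)) :
    ∀ᶠ t : ℕ in atTop, (piece k (Fin (e + 1)) m t).map
      ((LinearMap.proj t).comp (psi c F fun i => topLin (twMap ((0 : ℕ) : ℤ) q) (b i))) = ⊤ := by
  have hgen : ∀ (t : ℕ) (s : Γ(obj E t, ⊤)), ∃ x ∈ piece k (Fin (e + 1)) m t, psi c E (fun i => b i) x t = s := by
    intro t
    induction t with
    | zero =>
      intro s
      refine ⟨fun i => MvPolynomial.C (b.repr s i), mem_piece.2 fun i => isHomogeneous_C _ _, ?_⟩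
      rw [psi_apply]
      refine Eq.trans (Finset.sum_congr rfl fun i _ => ?_) (b.sum_repr s)
      rw [act_C, ins_same]
    | succ t ih =>
      intro s
      obtain ⟨z, rfl⟩ := hc t s
      choose x hx hxz using fun v => ih (z v)
      refine ⟨∑ v, (MvPolynomial.X v : MvPolynomial (Fin (e + 1)) k) • x v, Submodule.sum_mem _ fun v _ => mem_piece.2 fun i => ?_, ?_⟩
      · show (MvPolynomial.X v * x v i).IsHomogeneous (t + 1)
        rw [add_comm t 1]
        exact (isHomogeneous_X k v).mul (mem_piece.1 (hx v) i)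
      · rw [map_sum, Finset.sum_apply]
        refine Finset.sum_congr rfl fun v _ => ?_
        rw [psi_smul, act_X, ← hxz v]
        rfl
  filter_upwards [eventually_surjective hE hF q] with t ht
  rw [eq_top_iff]
  rintro u -
  obtain ⟨s, rfl⟩ := ht u
  obtain ⟨x, hx, rfl⟩ := hgen t s
  refine ⟨x, hx, ?_⟩
  show psi c F (fun i => topLin (twMap ((0 : ℕ) : ℤ) q) (b i)) x t = totMap q (psi c E (fun i => b i) x) t
  have h : totMap q (psi c E (fun i => b i) x) = psi c F (fun i => topLin (twMap ((0 : ℕ) : ℤ) q) (b i)) x := by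
    show totMap q (∑ i, act E c (x i) (ins E 0 (b i))) = ∑ i, act F c (x i) (ins F 0 _)
    rw [map_sum]
    refine Finset.sum_congr rfl fun i _ => ?_
    rw [totMap_act]
    congr 1
    funext r
    rcases eq_or_ne r 0 with rfl | hr
    · show topLin (twMap _ q) (ins E 0 (b i) 0) = _
      rw [ins_same, ins_same]
    · show topLin (twMap _ q) (ins E 0 (b i) r) = _
      rw [ins_ne E hr, ins_ne F hr, map_zero]
  rw [h]

end Groth.Agent.GrothBddLib
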