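import Groth.Agent.GrothBddLib.PureQuot
import Groth.Agent.ShStabLib.THNApp
import Groth.Prelude.Def_W4c2simpsonmod1HP

/-!
# Reduced polynomials and slopes computed on all integer twists
-/

set_option autoImplicit false
set_option backward.isDefEq.respectTransparency false
set_option linter.style.haveILetI false
set_option linter.unusedSectionVars false

universe u

open CategoryTheory CategoryTheory.Limits AlgebraicGeometry Polynomial
open Groth.Agent.ShStabLib StabCat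

noncomputable section

namespace Groth.Agent.GrothBddLib

variable {d : ℕ} {ψ φ : ℚ[X]}

theorem w4_redLE_iff (hψ : 0 < alpha d ψ) (hφ : 0 < alpha d φ) :
    W4c2simpsonmod1.RedLE d ψ φ ↔ RedLE d ψ φ := by
  constructor
  · rintro ⟨N, h⟩
    refine ⟨N.toNat, fun m hm => ?_⟩
    have := h (m : ℤ) (by omega)
    rw [show W4c2simpsonmod1.rankOf d ψ = alpha d ψ from rfl, show W4c2simpsonmod1.rankOf d φ = alpha d φ from rfl,
      div_le_div_iff₀ hψ hφ, Int.cast_natCast] at this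
    simp only [eval_smul, smul_eq_mul]
    linarith
  · rintro ⟨N, h⟩
    refine ⟨(N : ℤ), fun m hm => ?_⟩
    lift m to ℕ using by omega
    have := h m (by omega)
    simp only [eval_smul, smul_eq_mul] at this
    rw [show W4c2simpsonmod1.rankOf d ψ = alpha d ψ from rfl, show W4c2simpsonmod1.rankOf d φ = alpha d φ from rfl,
      div_le_div_iff₀ hψ hφ, Int.cast_natCast]
    linarith

theorem w4_redLT_iff (hψ : 0 < alpha d ψ) (hφ : 0 < alpha d φ) :
    W4c2simpsonmod1.RedLT d ψ φ ↔ RedLT d ψ φ := by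
  constructor
  · rintro ⟨N, h⟩
    refine ⟨N.toNat, fun m hm => ?_⟩
    have := h (m : ℤ) (by omega)
    rw [show W4c2simpsonmod1.rankOf d ψ = alpha d ψ from rfl, show W4c2simpsonmod1.rankOf d φ = alpha d φ from rfl,
      div_lt_div_iff₀ hψ hφ, Int.cast_natCast] at this
    simp only [eval_smul, smul_eq_mul]
    linarith
  · rintro ⟨N, h⟩
    refine ⟨(N : ℤ), fun m hm => ?_⟩
    lift m to ℕ using by omega
    have := h m (by omega)
    simp only [eval_smul, smul_eq_mul] at this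
    rw [show W4c2simpsonmod1.rankOf d ψ = alpha d ψ from rfl, show W4c2simpsonmod1.rankOf d φ = alpha d φ from rfl,
      div_lt_div_iff₀ hψ hφ, Int.cast_natCast]
    linarith

theorem topPart_one_zero (hd : d = 0) (P : ℚ[X]) : topPart 1 d P = Polynomial.C (alpha d P) := by
  subst hd
  ext i
  rw [coeff_topPart, coeff_C]
  rcases i with _ | i <;> simp [alpha]

theorem w4_slope_le_iff (hψ : 0 < alpha d ψ) (hφ : 0 < alpha d φ) :
    W4c2simpsonmod1.slopeOf d ψ ≤ W4c2simpsonmod1.slopeOf d φ ↔ RedLE d (topPart 1 d ψ) (topPart 1 d φ) := by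
  rcases Nat.eq_zero_or_pos d with hd | hd
  · subst hd
    have e : ∀ P : ℚ[X], 0 < alpha 0 P → W4c2simpsonmod1.slopeOf 0 P = 1 := fun P hP => by
      show _ / alpha 0 P = 1
      simp only [alpha, Nat.factorial_zero, Nat.cast_one, one_mul] at hP
      simp [alpha, hP.ne']
    rw [e ψ hψ, e φ hφ, redLE_iff, cr, alpha_topPart, alpha_topPart, topPart_one_zero rfl, topPart_one_zero rfl]
    simp [smul_C, mul_comm]
  · rw [redLE_topPart_one_iff hd hψ hφ]
    rfl

theorem w4_slope_lt_iff (hψ : 0 < alpha d ψ) (hφ : 0 < alpha d φ) :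
    W4c2simpsonmod1.slopeOf d ψ < W4c2simpsonmod1.slopeOf d φ ↔ RedLT d (topPart 1 d ψ) (topPart 1 d φ) := by
  rcases Nat.eq_zero_or_pos d with hd | hd
  · subst hd
    have e : ∀ P : ℚ[X], 0 < alpha 0 P → W4c2simpsonmod1.slopeOf 0 P = 1 := fun P hP => by
      show _ / alpha 0 P = 1
      simp only [alpha, Nat.factorial_zero, Nat.cast_one, one_mul] at hP
      simp [alpha, hP.ne']
    rw [e ψ hψ, e φ hφ, redLT_iff, cr, alpha_topPart, alpha_topPart, topPart_one_zero rfl, topPart_one_zero rfl]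
    simp [smul_C, mul_comm]
  · rw [redLT_topPart_one_iff hd hψ hφ]
    rfl

variable (k : Type u) [Field k] {X : Scheme.{u}} [X.Over (Spec (CommRingCat.of k))]
  [IsProper (X ↘ Spec (CommRingCat.of k))] {L E : X.Modules} (Tw : ℤ → X.Modules) {P : ℚ[X]}
  (hamp : CohB1.IsAmple L) (hE : Coh.IsCoh E) (hp : ShStab.IsPure X E d) (h0 : ¬ IsZero E) (pe : HP k L E P)
  (htw : ∀ (M : X.Modules) (p : ℚ[X]), Coh.IsCoh M → HP k L M p → ∀ m : ℤ,
    (Curv2.euler k X (CohB1.tensorMod M (Tw m)) : ℚ) = p.eval (m : ℚ))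
include hamp hE hp h0 pe htw

/-- A polynomial on all integer twists of a submodule is its Hilbert polynomial. -/
theorem hp_of_int {G : X.Modules} (hG : Coh.IsCoh G) (hGd : DimLE d G) {q : ℚ[X]}
    (hq : ∀ m : ℤ, (Curv2.euler k X (CohB1.tensorMod G (Tw m)) : ℚ) = q.eval (m : ℚ)) : HP k L G q := by
  obtain ⟨pG, -, hpG⟩ := exists_hp k hamp hG hGd
  have : q = pG := HilbLib.poly_eq_of_nat fun m => by
    rw [← Int.cast_natCast m, ← hq, htw G pG hG hpG]
  rw [this]
  exact hpG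

theorem alpha_of_pure : 0 < alpha d P := alpha_pos_of_isPure k hamp hE h0 hp pe

/-- `p`-semistability on all integer twists. -/
theorem w4_ss_iff :
    (∀ (G : X.Modules) (ι : G ⟶ E), Mono ι → Coh.IsCoh G → ¬ IsZero G → ∀ φ ψ : ℚ[X],
      (∀ m : ℤ, (Curv2.euler k X (CohB1.tensorMod E (Tw m)) : ℚ) = φ.eval (m : ℚ)) →
      (∀ m : ℤ, (Curv2.euler k X (CohB1.tensorMod G (Tw m)) : ℚ) = ψ.eval (m : ℚ)) →
      W4c2simpsonmod1.RedLE d ψ φ) ↔ ShStab.IsSemistable k X L E d := by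
  have hdE := dimLE_of_isPure hE hp
  have hα := alpha_of_pure k Tw hamp hE hp h0 pe htw
  constructor
  · refine fun h => ⟨hE, h0, hp, fun G ι _ hG hG0 _ pG pE pg pe' => ?_⟩
    obtain rfl := hp_unique k pe' pe
    exact (w4_redLE_iff (alpha_pos_of_isPure k hamp hG hG0 (isPure_of_mono hp ι) pg) hα).1
      (h G ι inferInstance hG hG0 pE pG (htw E pE hE pe) (htw G pG hG pg))
  · intro h G ι hι hG hG0 φ ψ hφ hψ
    haveI := hι
    have pg := hp_of_int k Tw hamp hE hp h0 pe htw hG (dimLE_of_mono hdE ι) hψ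
    obtain rfl := hp_unique k (hp_of_int k Tw hamp hE hp h0 pe htw hE hdE hφ) pe
    exact (w4_redLE_iff (alpha_pos_of_isPure k hamp hG hG0 (isPure_of_mono hp ι) pg) hα).2
      (ss_le k hamp h ι hG hG0 pg pe)

/-- `p`-stability on all integer twists. -/
theorem w4_st_iff :
    (∀ (G : X.Modules) (ι : G ⟶ E), Mono ι → Coh.IsCoh G → ¬ IsZero G → ¬ IsIso ι → ∀ φ ψ : ℚ[X],
      (∀ m : ℤ, (Curv2.euler k X (CohB1.tensorMod E (Tw m)) : ℚ) = φ.eval (m : ℚ)) →
      (∀ m : ℤ, (Curv2.euler k X (CohB1.tensorMod G (Tw m)) : ℚ) = ψ.eval (m : ℚ)) →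
      W4c2simpsonmod1.RedLT d ψ φ) ↔ ShStab.IsStable k X L E d := by
  have hdE := dimLE_of_isPure hE hp
  have hα := alpha_of_pure k Tw hamp hE hp h0 pe htw
  constructor
  · refine fun h => ⟨hE, h0, hp, fun G ι _ hG hG0 hni pG pE pg pe' => ?_⟩
    obtain rfl := hp_unique k pe' pe
    exact (w4_redLT_iff (alpha_pos_of_isPure k hamp hG hG0 (isPure_of_mono hp ι) pg) hα).1
      (h G ι inferInstance hG hG0 hni pE pG (htw E pE hE pe) (htw G pG hG pg))
  · intro h G ι hι hG hG0 hni φ ψ hφ hψ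
    haveI := hι
    have pg := hp_of_int k Tw hamp hE hp h0 pe htw hG (dimLE_of_mono hdE ι) hψ
    obtain rfl := hp_unique k (hp_of_int k Tw hamp hE hp h0 pe htw hE hdE hφ) pe
    exact (w4_redLT_iff (alpha_pos_of_isPure k hamp hG hG0 (isPure_of_mono hp ι) pg) hα).2
      (h.2.2.2 G ι hι hG hG0 hni ψ φ pg pe)

/-- Slope semistability on all integer twists. -/
theorem w4_muss_iff :
    (∀ (G : X.Modules) (ι : G ⟶ E), Mono ι → Coh.IsCoh G → ¬ IsZero G → ∀ φ ψ : ℚ[X],
      (∀ m : ℤ, (Curv2.euler k X (CohB1.tensorMod E (Tw m)) : ℚ) = φ.eval (m : ℚ)) →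
      (∀ m : ℤ, (Curv2.euler k X (CohB1.tensorMod G (Tw m)) : ℚ) = ψ.eval (m : ℚ)) →
      W4c2simpsonmod1.slopeOf d ψ ≤ W4c2simpsonmod1.slopeOf d φ) ↔ ShStab.IsEllSemistable k X L E d 1 := by
  have hdE := dimLE_of_isPure hE hp
  have hα := alpha_of_pure k Tw hamp hE hp h0 pe htw
  constructor
  · refine fun h => ⟨hE, h0, hp, fun G ι _ hG pG pE pg pe' hpos _ => ?_⟩
    obtain rfl := hp_unique k pe' pe
    exact (w4_slope_le_iff hpos hα).1
      (h G ι inferInstance hG (not_isZero_of_alpha_pos k hamp pg hpos) pE pG (htw E pE hE pe) (htw G pG hG pg))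
  · intro h G ι hι hG hG0 φ ψ hφ hψ
    haveI := hι
    have pg := hp_of_int k Tw hamp hE hp h0 pe htw hG (dimLE_of_mono hdE ι) hψ
    obtain rfl := hp_unique k (hp_of_int k Tw hamp hE hp h0 pe htw hE hdE hφ) pe
    have hpos := alpha_pos_of_isPure k hamp hG hG0 (isPure_of_mono hp ι) pg
    refine (w4_slope_le_iff hpos hα).2 ?_
    rcases (alpha_le_of_mono k hamp ι hG hE hdE pg pe).eq_or_lt with he | hlt
    · obtain ⟨pC, hpC, e, hC, hdC⟩ := exists_hp_coker k hamp ι hG hE hdE pg pe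
      rw [e, topPart_add]
      refine redLE_add_of_alpha_eq_zero ?_ (by rw [alpha_topPart]; exact hpos.le)
        (lc_topPart_nonneg 1 (degree_lt k hamp hC hdC hpC) (lc_nonneg k hamp hC hdC hpC))
      rw [e, alpha_add] at he
      rw [alpha_topPart]
      linarith
    · exact h.2.2.2 G ι hι hG ψ φ pg pe hpos hlt

/-- Slope stability on all integer twists. -/
theorem w4_must_iff :
    (∀ (G : X.Modules) (ι : G ⟶ E), Mono ι → Coh.IsCoh G → ¬ IsZero G → ∀ φ ψ : ℚ[X],
      (∀ m : ℤ, (Curv2.euler k X (CohB1.tensorMod E (Tw m)) : ℚ) = φ.eval (m : ℚ)) →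
      (∀ m : ℤ, (Curv2.euler k X (CohB1.tensorMod G (Tw m)) : ℚ) = ψ.eval (m : ℚ)) →
      W4c2simpsonmod1.rankOf d ψ < W4c2simpsonmod1.rankOf d φ →
      W4c2simpsonmod1.slopeOf d ψ < W4c2simpsonmod1.slopeOf d φ) ↔ ShStab.IsEllStable k X L E d 1 := by
  have hdE := dimLE_of_isPure hE hp
  have hα := alpha_of_pure k Tw hamp hE hp h0 pe htw
  constructor
  · refine fun h => ⟨hE, h0, hp, fun G ι _ hG pG pE pg pe' hpos hlt => ?_⟩
    obtain rfl := hp_unique k pe' pe
    exact (w4_slope_lt_iff hpos hα).1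
      (h G ι inferInstance hG (not_isZero_of_alpha_pos k hamp pg hpos) pE pG (htw E pE hE pe) (htw G pG hG pg) hlt)
  · intro h G ι hι hG hG0 φ ψ hφ hψ hlt
    haveI := hι
    have pg := hp_of_int k Tw hamp hE hp h0 pe htw hG (dimLE_of_mono hdE ι) hψ
    obtain rfl := hp_unique k (hp_of_int k Tw hamp hE hp h0 pe htw hE hdE hφ) pe
    have hpos := alpha_pos_of_isPure k hamp hG hG0 (isPure_of_mono hp ι) pg
    exact (w4_slope_lt_iff hpos hα).2 (h.2.2.2 G ι hι hG ψ φ pg pe hpos hlt)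

end Groth.Agent.GrothBddLib
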