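import Groth.Agent.GrothBddLib.Openness
import Groth.Agent.GrothBddLib.W4Crit
import Groth.Agent.S1026
import Mathlib.AlgebraicGeometry.AlgClosed.Basic
import Mathlib.Analysis.Complex.Polynomial.Basic

/-!
# The bad locus and complex points
-/

set_option autoImplicit false
set_option backward.isDefEq.respectTransparency false
set_option linter.style.haveILetI false
set_option linter.unusedSectionVars false

universe u

open CategoryTheory CategoryTheory.Limits AlgebraicGeometry Polynomial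
open Groth.Agent.ShStabLib StabCat

noncomputable section

namespace Groth.Agent.GrothBddLib

variable {S X : Scheme.{u}} {n : ℕ} (i : X ⟶ CohB1.ProjSpaceOver n S) [IsClosedImmersion i]

/-- The restrictions of the twists to a fibre over a field point. -/
abbrev twPt {K : Type u} [Field K] (a : Spec (CommRingCat.of K) ⟶ S) (m : ℤ) :
    (PicF.XT (QuotRep.stF i) (Over.mk a)).Modules :=
  (Scheme.Modules.pullback (pullback.fst (QuotRep.stF i) a ≫ i)).obj (Twist.twistOver n S m)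

theorem nonempty_inverse_unique {Z : Scheme.{u}} {A A' B B' : Z.Modules}
    (e : CohB1.tensorMod A B ≅ Coh.structureModule Z) (e' : CohB1.tensorMod A' B' ≅ Coh.structureModule Z)
    (b : B ≅ B') : Nonempty (A ≅ A') :=
  ⟨(AmpleLib.unitR A).symm ≪≫ AmpleLib.tIso (Iso.refl A) (e'.symm ≪≫ AmpleLib.comm A' B') ≪≫
    (AmpleLib.assoc A B' A').symm ≪≫ AmpleLib.tIso (AmpleLib.tIso (Iso.refl A) b.symm ≪≫ e) (Iso.refl A') ≪≫
    AmpleLib.unitL A'⟩

/-- Hilbert polynomials on the fibres compute the Euler characteristics of all integer twists. -/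
theorem euler_twPt {K : Type u} [Field K] (a : Spec (CommRingCat.of K) ⟶ S) :
    letI : (PicF.XT (QuotRep.stF i) (Over.mk a)).Over (Spec (CommRingCat.of K)) :=
      ⟨PicF.XTproj (QuotRep.stF i) (Over.mk a)⟩
    ∀ (M : (PicF.XT (QuotRep.stF i) (Over.mk a)).Modules) (p : ℚ[X]), Coh.IsCoh M →
      HP K (FGA.ET (QuotRep.stF i) (QuotRep.twX i 1) (Over.mk a)) M p → ∀ m : ℤ,
      (Curv2.euler K (PicF.XT (QuotRep.stF i) (Over.mk a)) (CohB1.tensorMod M (twPt i a m)) : ℚ) =
        p.eval (m : ℚ) := by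
  haveI : IsProper (QuotRep.stF i) := isProper_stF i
  let Z := PicF.XT (QuotRep.stF i) (Over.mk a)
  letI : Z.Over (Spec (CommRingCat.of K)) := ⟨PicF.XTproj (QuotRep.stF i) (Over.mk a)⟩
  haveI : IsProper (Z ↘ Spec (CommRingCat.of K)) := isProper_of_sq (IsPullback.of_hasPullback (QuotRep.stF i) a)
  intro M p hM hp m
  obtain ⟨j, hj, hjc, ⟨θ⟩⟩ := exists_point_emb i a
  haveI := hj
  let fst : Z ⟶ X := pullback.fst (QuotRep.stF i) a
  let LZ := FGA.ET (QuotRep.stF i) (QuotRep.twX i 1) (Over.mk a)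
  let L1 : LZ ≅ CohB1.tensorPow LZ 1 := (AmpleLib.unitL LZ).symm
  let tj : ℤ → Z.Modules := fun l => (Scheme.Modules.pullback j).obj (Twist.twistProjSpace n K l)
  let tt : ℤ → Z.Modules := fun l => (Scheme.Modules.pullback fst).obj (QuotRep.twX i l)
  have hnat : ∀ q : ℕ, Nonempty (tt q ≅ tj q) := fun q =>
    (QuotRep.nonempty_twX_pow i q).map fun e => (Scheme.Modules.pullback fst).mapIso e.symm ≪≫
      AmpleLib.pullPow fst (QuotRep.twX i 1) q ≪≫ eqToIso (by rw [one_mul]; rfl) ≪≫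
      (CurveBddLib.powIsoOf j (θ ≪≫ L1) q).symm
  have hiso : Nonempty (tt m ≅ tj m) := by
    rcases Int.eq_nat_or_neg m with ⟨q, rfl | rfl⟩
    · exact hnat q
    · obtain ⟨b⟩ := hnat q
      obtain ⟨e1⟩ := QuotRep.nonempty_twX_mul i (show -(q : ℤ) + q = 0 by ring)
      obtain ⟨e2⟩ := QuotRep.nonempty_twX_zero i
      exact nonempty_inverse_unique
        ((AmpleLib.pullTensor fst _ _).symm ≪≫ (Scheme.Modules.pullback fst).mapIso (e1 ≪≫ e2) ≪≫
          DCohLib.pullStructureIso fst) (CurveBddLib.twistCancel j (q : ℤ)) b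
  obtain ⟨e⟩ := hiso
  rw [CurveLib.euler_iso (K := K) (AmpleLib.tIso (Iso.refl M)
    (((Scheme.Modules.pullbackComp fst i).app (Twist.twistOver n S m)).symm ≪≫ e))]
  have := twistOn_poly (a := 1) hjc (θ ≪≫ L1) hM hp m
  simp only [Nat.cast_one, map_one, one_mul, Polynomial.comp_X] at this
  exact this


end Groth.Agent.GrothBddLib

namespace Groth.Agent.GrothBddLib

variable {S X : Scheme.{0}} {n : ℕ} (i : X ⟶ CohB1.ProjSpaceOver n S) [IsClosedImmersion i]
  (sS : S ⟶ Spec (CommRingCat.of ℂ)) [LocallyOfFiniteType sS] [QuasiCompact sS]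

omit [IsClosedImmersion i] in
include sS in
theorem isNoetherian_base : IsNoetherian S :=
  haveI : IsLocallyNoetherian S := LocallyOfFiniteType.isLocallyNoetherian sS
  haveI : CompactSpace S := QuasiCompact.compactSpace_of_compactSpace sS
  AlgebraicGeometry.IsNoetherian.mk

/-- A quotient over any field point lies over a complex point with a quotient. -/
theorem exists_quot_at_point [IsNoetherian S] {E : X.Modules} (hE : Coh.IsCoh E) (Ψ : ℚ[X])
    (t : Spec (CommRingCat.of ℂ) ⟶ S) (ht : t ≫ sS = 𝟙 _)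
    (h : t (IsLocalRing.closedPoint ℂ) ∈ BadLocus (QuotRep.stF i) (QuotRep.twX i 1) E (fun p => p = Ψ)) :
    letI : (PicF.XT (QuotRep.stF i) (Over.mk t)).Over (Spec (CommRingCat.of ℂ)) :=
      ⟨PicF.XTproj (QuotRep.stF i) (Over.mk t)⟩
    HasQuot ℂ (FGA.ET (QuotRep.stF i) (QuotRep.twX i 1) (Over.mk t)) (FGA.ET (QuotRep.stF i) E (Over.mk t))
      (fun p => p = Ψ) := by
  let f := QuotRep.stF i
  haveI : IsProper f := isProper_stF i
  have hL := QuotRep.isInvertible_twX i 1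
  obtain ⟨Q, K₀, hQn, hK₀, hprop, huniv⟩ := QuotRep.exists_quot_proper i hE Ψ
  haveI := hQn
  haveI := hprop
  obtain ⟨K, _, a, ha, hq⟩ := h
  obtain ⟨K', hK'⟩ := (hasQuot_iff_quotSet hL a Ψ).1 hq
  haveI : IsLocallyNoetherian (Over.mk a).left := inferInstanceAs (IsLocallyNoetherian (Spec (CommRingCat.of K)))
  obtain ⟨g, -, -⟩ := huniv (Over.mk a) K' hK'
  let s : S := t (IsLocalRing.closedPoint ℂ)
  have hs : IsClosed ({s} : Set S) :=
    mem_closedPoints_iff.1 (pointEquivClosedPoint sS ⟨t, ht⟩).2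
  haveI : JacobsonSpace Q.left := LocallyOfFiniteType.jacobsonSpace (Q.hom ≫ sS)
  have hne : (Q.hom ⁻¹' {s}).Nonempty := ⟨g.left (IsLocalRing.closedPoint K), by
    show Q.hom (g.left _) = s
    rw [← Scheme.Hom.comp_apply, Over.w g]
    exact ha⟩
  obtain ⟨u, hu, huc⟩ := nonempty_inter_closedPoints hne ((hs.preimage Q.hom.continuous).isLocallyClosed)
  let p := pointOfClosedPoint (Q.hom ≫ sS) u huc
  have hp : p ≫ Q.hom = t := by
    refine ext_of_apply_closedPoint_eq sS ?_ ht ?_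
    · rw [Category.assoc]; exact pointOfClosedPoint_comp (Q.hom ≫ sS) u huc
    · rw [Scheme.Hom.comp_apply, pointOfClosedPoint_apply]
      exact hu
  let g' : Over.mk t ⟶ Q := Over.homMk p hp
  exact (hasQuot_iff_quotSet hL t Ψ).2 ⟨QuotRep.qPull f E g' K₀, QuotRep.hilbCond_qPull hL g' K₀ hK₀⟩

omit [IsClosedImmersion i] in
theorem range_subset_iff (t : Spec (CommRingCat.of ℂ) ⟶ S) (U : Set S) :
    Set.range t.base ⊆ U ↔ t (IsLocalRing.closedPoint ℂ) ∈ U :=
  ⟨fun h => h ⟨_, rfl⟩, fun h => by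
    rintro _ ⟨x, rfl⟩
    rw [Subsingleton.elim x (IsLocalRing.closedPoint ℂ)]
    exact h⟩

/-- An open set cutting out the complex points without bad quotients. -/
theorem exists_open_good {E : X.Modules} (hE : Coh.IsCoh E) (hfl : FlatMod.IsFlatOver (QuotRep.stF i) E) (d : ℕ)
    (Bad : ℚ[X] → ℚ[X] → Prop)
    (hB : ∀ P : ℚ[X], P.degree < ((d + 1 : ℕ) : WithBot ℕ) → 0 < alpha d P → IsBad d P (Bad P)) :
    ∃ U : S.Opens, ∀ (t : Spec (CommRingCat.of ℂ) ⟶ S), t ≫ sS = 𝟙 _ →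
      letI : (PicF.XT (QuotRep.stF i) (Over.mk t)).Over (Spec (CommRingCat.of ℂ)) :=
        ⟨PicF.XTproj (QuotRep.stF i) (Over.mk t)⟩
      ∀ P : ℚ[X], HP ℂ (FGA.ET (QuotRep.stF i) (QuotRep.twX i 1) (Over.mk t)) (FGA.ET (QuotRep.stF i) E (Over.mk t)) P →
        P.degree < ((d + 1 : ℕ) : WithBot ℕ) → 0 < alpha d P →
        (Set.range t.base ⊆ (U : Set S) ↔
          ¬ HasQuot ℂ (FGA.ET (QuotRep.stF i) (QuotRep.twX i 1) (Over.mk t)) (FGA.ET (QuotRep.stF i) E (Over.mk t))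
            (Bad P)) := by
  let f := QuotRep.stF i
  let L := QuotRep.twX i 1
  haveI := isNoetherian_base sS
  haveI : IsProper f := isProper_stF i
  haveI : IsLocallyNoetherian X := LocallyOfFiniteType.isLocallyNoetherian f
  haveI : LocallyOfFinitePresentation f := S14008.lfp_of_lft f
  have hL := QuotRep.isInvertible_twX i 1
  have hloc : ∀ m : ℕ, IsLocallyConstant fun s : S => HilbStratLib.eul f E L s m := fun m => by
    have hc : Coh.IsCoh (CohB1.tensorMod E (CohB1.tensorPow L m)) :=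
      CMRegLib.isCoh_tensor_inv hE (AmpleLib.isInvertible_tensorPow hL m)
    haveI := hE.1
    haveI : Coh.IsQCoh (DCohLib.tmod E (CohB1.tensorPow L m)) := hc.1
    exact S1026.result f _ (QCohLib.isFP_of_isCoh _ hc)
      (TwistFlat.isFlatOver_tensor f (AmpleLib.isInvertible_tensorPow hL m) hfl)
  let lev : ℚ[X] → Set S := fun P => {s : S | ∀ m : ℕ, (HilbStratLib.eul f E L s m : ℚ) = P.eval (m : ℚ)}
  have hlev : ∀ P, IsClosed (lev P) := fun P => by
    have : lev P = ⋂ m : ℕ, (fun s : S => HilbStratLib.eul f E L s m) ⁻¹' {z : ℤ | (z : ℚ) = P.eval (m : ℚ)} := by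
      ext s; simp [lev]
    rw [this]
    exact isClosed_iInter fun m => ⟨by rw [← Set.preimage_compl]; exact (hloc m) _⟩
  let Ps : Set ℚ[X] := {P | P.degree < ((d + 1 : ℕ) : WithBot ℕ) ∧ 0 < alpha d P ∧ (lev P).Nonempty}
  have hfin : Ps.Finite := by
    haveI : TopologicalSpace.NoetherianSpace S := inferInstance
    have hC := TopologicalSpace.NoetherianSpace.finite_irreducibleComponents (α := S)
    have hsub : Ps ⊆ ⋃ Z ∈ irreducibleComponents S, {P | (lev P ∩ Z).Nonempty} := by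
      rintro P ⟨-, -, s, hs⟩
      exact Set.mem_iUnion₂.2 ⟨irreducibleComponent s, irreducibleComponent_mem_irreducibleComponents s, s, hs,
        mem_irreducibleComponent⟩
    refine (hC.biUnion fun Z hZ => Set.Subsingleton.finite ?_).subset hsub
    rintro P ⟨s, hs, hsZ⟩ Q ⟨s', hs', hsZ'⟩
    refine HilbLib.poly_eq_of_nat fun m => ?_
    rw [← hs m, ← hs' m]
    exact congrArg Int.cast
      ((hloc m).apply_eq_of_isPreconnected hZ.1.2.isPreconnected hsZ hsZ')
  have hcl : IsClosed (⋃ P ∈ Ps, lev P ∩ BadLocus f L E (Bad P)) :=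
    hfin.isClosed_biUnion fun P hP => isClosed_badLocus i hE hP.1 hP.2.1 (hB P hP.1 hP.2.1) (hlev P)
  refine ⟨⟨(⋃ P ∈ Ps, lev P ∩ BadLocus f L E (Bad P))ᶜ, hcl.isOpen_compl⟩, fun t ht => ?_⟩
  intro P hP hPd hα
  rw [range_subset_iff]
  show ¬ _ ↔ _
  refine not_congr ?_
  have hs : t (IsLocalRing.closedPoint ℂ) ∈ lev P :=
    (hp_iff_eul (IsPullback.of_hasPullback f t) hL hE (QCohLib.isFP_of_isCoh _ hE) P).1 hP
  constructor
  · intro h
    obtain ⟨Q, hQ, hQs, hbad⟩ := Set.mem_iUnion₂.1 h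
    obtain rfl : Q = P := HilbLib.poly_eq_of_nat fun m => (hQs m).symm.trans (hs m)
    obtain ⟨Φ, -, hΦ, hmem⟩ := exists_finite_bad i hE hPd hα (hB Q hPd hα)
    obtain ⟨Ψ, hΨ, hΨs⟩ := hmem _ hQs hbad
    letI : (PicF.XT (QuotRep.stF i) (Over.mk t)).Over (Spec (CommRingCat.of ℂ)) :=
      ⟨PicF.XTproj (QuotRep.stF i) (Over.mk t)⟩
    obtain ⟨C, π, pC, hπ, hC, hpC, heq⟩ := exists_quot_at_point i sS hE Ψ t ht hΨs
    exact ⟨C, π, pC, hπ, hC, hpC, heq.symm ▸ hΦ Ψ hΨ⟩
  · intro h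
    exact Set.mem_iUnion₂.2 ⟨P, ⟨hPd, hα, _, hs⟩, hs, ℂ, inferInstance, t, rfl, h⟩

end Groth.Agent.GrothBddLib
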