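import Groth.Agent.ShGeomLib.Main
import Groth.Agent.ShGeomLib.HN
import Groth.Agent.ShStabLib.THN

/-!
# `ℓ`-semistability after an extension of the ground field
-/

set_option autoImplicit false
set_option backward.isDefEq.respectTransparency false
set_option linter.style.haveILetI false
set_option linter.unusedSectionVars false

universe u

open CategoryTheory CategoryTheory.Limits AlgebraicGeometry Polynomial StabCat
open Groth.Agent.ShBCLib Groth.Agent.ShStabLib Groth.Agent.ShGeomLib

noncomputable section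

namespace Groth.Agent.GrothBddLib

variable (k : Type u) [Field k] {X : Scheme.{u}} [X.Over (Spec (CommRingCat.of k))]
  [IsProper (X ↘ Spec (CommRingCat.of k))] {L E : X.Modules} {d ℓ : ℕ}
  (hL : CohB1.IsAmple L) (hE : ShStab.IsEllSemistable k X L E d ℓ) {pE : ℚ[X]} (pe : HP k L E pE)
include hL hE pe

theorem redLE_top_sub {I : X.Modules} (ι : I ⟶ E) [Mono ι] (hI : Coh.IsCoh I) {pI : ℚ[X]} (pi : HP k L I pI) :
    RedLE d (topPart ℓ d pI) (topPart ℓ d pE) := by
  have hdE := dimLE_of_isPure hE.1 hE.2.2.1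
  by_cases hz : IsZero I
  · rw [hp_unique k pi (Q := 0) fun m => by rw [eval_zero]; exact HilbLib.chi_isZero k hL.1 hz m, topPart_zero]
    exact redLE_of_eq (redEq_iff.2 (cr_zero_left _))
  have hpos := alpha_pos_of_isPure k hL hI hz (isPure_of_mono hE.2.2.1 ι) pi
  obtain ⟨pC, hpC, e, hC, hdC⟩ := exists_hp_coker k hL ι hI hE.1 hdE pi pe
  rcases (alpha_le_of_mono k hL ι hI hE.1 hdE pi pe).eq_or_lt with he | hlt
  · rw [e, topPart_add]
    refine redLE_add_of_alpha_eq_zero ?_ (by rw [alpha_topPart]; exact hpos.le)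
      (lc_topPart_nonneg ℓ (degree_lt k hL hC hdC hpC) (lc_nonneg k hL hC hdC hpC))
    rw [e, alpha_add] at he
    rw [alpha_topPart]
    linarith
  · exact hE.2.2.2 I ι inferInstance hI pI pE pi pe hpos hlt

theorem redLE_top_copies (n : ℕ) : ∀ {G : X.Modules} (g : Fin n → (G ⟶ E)), Coh.IsCoh G →
    (∀ {T : X.Modules} (h : T ⟶ G), (∀ i, h ≫ g i = 0) → h = 0) → ∀ {pG : ℚ[X]}, HP k L G pG →
      RedLE d (topPart ℓ d pG) (topPart ℓ d pE) := by
  haveI := EulerIneqLib.isNoetherian_proper (X := X) k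
  induction n with
  | zero =>
    intro G g hG hg pG pg
    have hz : IsZero G := (IsZero.iff_id_eq_zero G).2 (hg _ fun i => i.elim0)
    rw [hp_unique k pg (Q := 0) fun m => by rw [eval_zero]; exact HilbLib.chi_isZero k hL.1 hz m, topPart_zero]
    exact redLE_of_eq (redEq_iff.2 (cr_zero_left _))
  | succ n ih =>
    intro G g hG hg pG pg
    have hK := (QCohLib.isCoh_kernel_cokernel (g 0) hG hE.1).1
    have hI := isCoh_image' (g 0) hG hE.1
    have hId : DimLE d (Abelian.image (g 0)) :=
      dimLE_of_mono (dimLE_of_isPure hE.1 hE.2.2.1) (Abelian.image.ι (g 0))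
    obtain ⟨pI, -, hpI⟩ := exists_hp k hL hI hId
    obtain ⟨N, hN⟩ := exists_dimLE (Y := X) k
    obtain ⟨pK, hpK, hadd, -, -⟩ := exists_hp_ker k hL (Abelian.factorThruImage (g 0)) hG hI (hN _) pg hpI
    let e : kernel (Abelian.factorThruImage (g 0)) ≅ kernel (g 0) :=
      (kernelCompMono (Abelian.factorThruImage (g 0)) (Abelian.image.ι (g 0))).symm ≪≫
        kernelIsoOfEq (Abelian.image.fac (g 0))
    have h1 := ih (fun i => kernel.ι (g 0) ≫ g i.succ) hK (fun {T} h hh => by
      rw [← cancel_mono (kernel.ι (g 0)), Limits.zero_comp]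
      refine hg _ fun i => ?_
      refine Fin.cases ?_ (fun j => ?_) i
      · rw [Category.assoc, kernel.condition, Limits.comp_zero]
      · rw [Category.assoc]; exact hh j) (hp_iso k e hpK)
    have h2 := redLE_top_sub k hL hE pe (Abelian.image.ι (g 0)) hI hpI
    rw [hadd, topPart_add, redLE_iff, cr_add_left]
    exact lc_add_nonneg (redLE_iff.1 h1) (redLE_iff.1 h2)

omit pe in
/-- `ℓ`-semistability is stable under extension of the ground field. -/
theorem isEllSemistable_bc (K : Type u) [Field K] [Algebra k K] :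
    ShStab.IsEllSemistable K (Curv2.bc k X K) (bcPull k K L) (bcPull k K E) d ℓ := by
  haveI := EulerIneqLib.isNoetherian_proper (X := X) k
  haveI := flat_bcFst k (X := X) K
  haveI := surjective_bcFst k (X := X) K
  haveI := PullbackMod.faithful_pullback (Curv2.bcFst k X K)
  obtain ⟨pE, -, pe⟩ := exists_hp k hL hE.1 (dimLE_of_isPure hE.1 hE.2.2.1)
  refine ⟨PullbackMod.isCoh_pullback _ E hE.1,
    fun hz => hE.2.1 ((IsZero.iff_id_eq_zero E).2 ((Scheme.Modules.pullback (Curv2.bcFst k X K)).map_injective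
      (hz.eq_of_src _ _))), ShGeomLib.isPure_bc_of_pure k hL hE.1 hE.2.2.1 K, fun F ι _ hF pF pE' pf pe' hpos _ => ?_⟩
  obtain rfl := hp_unique K pe' (isHilbPoly_bc k K hL.1 hE.1 pe)
  have h0 := not_isZero_of_alpha_pos K (isAmple_bc k hL K) pf hpos
  obtain ⟨k', i1, i2, hfin, G, ι', hι', hG, hG0, pg⟩ := exists_finite_sub k hL hE.1 pe K ι hF h0 pf
  haveI := hι'
  obtain ⟨g, hg⟩ := exists_components k hE.1 ι'
  have hr := redLE_top_copies k hL hE pe _ g (EtAlgEasy.PrinPartPush.isCoh_pushforward_finite (Curv2.bcFst k X k') hG) hg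
    (isHilbPoly_push k k' hL.1 hG pg)
  have hn : (0 : ℚ) < (Module.finrank k k' : ℚ) := Nat.cast_pos.2 Module.finrank_pos
  have e : topPart ℓ d (C (Module.finrank k k' : ℚ) * pF) = C (Module.finrank k k' : ℚ) * topPart ℓ d pF := by
    ext i
    simp only [coeff_topPart, coeff_C_mul]
    split_ifs <;> simp
  rw [redLE_iff, e, cr_smul_left, lc_smul_nonneg_iff hn] at hr
  exact redLE_iff.2 hr

end Groth.Agent.GrothBddLib
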