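import Groth.Agent.GrothBddLib.Openness
import Groth.Agent.GrothBddLib.EllExt

/-!
# `ℓ`-semistable fibres
-/

set_option autoImplicit false
set_option backward.isDefEq.respectTransparency false
set_option linter.style.haveILetI false
set_option linter.unusedSectionVars false

universe u

open CategoryTheory CategoryTheory.Limits AlgebraicGeometry Polynomial
open Groth.Agent.ShStabLib StabCat

noncomputable section

namespace Groth.Agent.GrothBddLib

variable {X S : Scheme.{u}} {f : X ⟶ S} [IsProper f] {L F : X.Modules} {P : ℚ[X]} {d ℓ : ℕ} {s : S}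

/-- `ℓ`-semistability of a fibre is the absence of bad quotients. -/
theorem isEllSemistable_iff (hL : RelAmple.IsRelAmple f L) (hF : Coh.IsCoh F)
    (hP : ShStab.IsHilbPoly (S.residueField s) (fib f s) (CohIII.fiberMod f L s) (CohIII.fiberMod f F s) P)
    (hd : topologicalKrullDim (CohB1.support (CohIII.fiberMod f F s)) = (d : WithBot ℕ∞)) :
    ShStab.IsEllSemistable (S.residueField s) (fib f s) (CohIII.fiberMod f L s) (CohIII.fiberMod f F s) d ℓ ↔
      s ∉ BadLocus f L F (BadEllSS ℓ d P) := by
  haveI : IsLocallyNoetherian (fib f s) := isLocallyNoetherian_of_sq (isPullback_fib f s)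
  obtain ⟨hPd, hα⟩ := poly_facts f s hL hF hP hd
  have hamp : CohB1.IsAmple (X := fib f s) (CohIII.fiberMod f L s) := isAmple_of_sq (isPullback_fib f s) hL
  have hFZ : Coh.IsCoh (X := fib f s) (CohIII.fiberMod f F s) := isCoh_pull (isPullback_fib f s) hF
  have hLi := AmpleLib.isInvertible_of_isRelAmple hL
  obtain ⟨h0, hdim⟩ := data_of_hp hamp hFZ hP hPd hα
  constructor
  · intro hss hmem
    obtain ⟨K, _, _, hq⟩ := exists_ext_of_mem f s hLi hmem
    letI : (Curv2.bc (S.residueField s) (fib f s) K).Over (Spec (CommRingCat.of K)) :=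
      ⟨Curv2.bcSnd (S.residueField s) (fib f s) K⟩
    haveI : IsProper (Curv2.bc (S.residueField s) (fib f s) K ↘ Spec (CommRingCat.of K)) := isProper_bcFib f s K
    obtain ⟨hampK, hFK, hPK⟩ := ext_data hL hF hP K
    obtain ⟨h0K, hdimK⟩ := data_of_hp hampK hFK hPK hPd hα
    exact (not_isEllSemistable_iff K hampK hFK h0K hdimK hPK hα).2 hq
      (isEllSemistable_bc (S.residueField s) hamp hss K)
  · intro h
    by_contra hss
    exact h (mem_of_fib f s hLi ((not_isEllSemistable_iff _ hamp hFZ h0 hdim hP hα).1 hss))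

end Groth.Agent.GrothBddLib
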