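import Groth.Agent.GrothBddLib.Sections

/-!
# Regular modules are generated by forms in few general linear forms
-/

set_option autoImplicit false
set_option backward.isDefEq.respectTransparency false
set_option linter.style.haveILetI false
set_option linter.unusedSectionVars false
set_option maxHeartbeats 400000

universe u

open CategoryTheory CategoryTheory.Limits AlgebraicGeometry Filter Polynomial
open Groth.Agent.CMRegLib Groth.Agent.DCohLib Groth.Agent.PullbackMod

noncomputable section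

namespace Groth.Agent.GrothBddLib

variable {k : Type u} [Field k] {n : ℕ}

local notation "PS" => CohB1.ProjSpace n k
local notation "O(" d ")" => Twist.twistProjSpace n k d

local instance : IsProper (PS ↘ Spec (CommRingCat.of k)) := CompleteCurve.isProper_toSpec n k

theorem degree_diff_lt {P : ℚ[X]} {j : ℕ} (h : P.degree < ((j + 1 : ℕ) : WithBot ℕ)) :
    (P - P.comp (Polynomial.X - C 1)).degree < ((j : ℕ) : WithBot ℕ) := by
  rcases eq_or_ne P 0 with rfl | h0
  · simp only [Polynomial.zero_comp, sub_zero, degree_zero]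
    exact WithBot.bot_lt_coe _
  have e : P.comp (Polynomial.X - C 1) = Polynomial.taylor (-1 : ℚ) P := by
    rw [Polynomial.taylor_apply, map_neg, sub_eq_add_neg]
  rw [e]
  refine lt_of_lt_of_le (degree_sub_lt_left (degree_taylor P (-1)).symm h0 (leadingCoeff_taylor (f := P) (r := (-1 : ℚ))).symm) ?_
  rw [degree_eq_natDegree h0] at h ⊢
  norm_cast at h ⊢
  omega

theorem subsingleton_obj_stalk {W : (PS).Modules} {x : PS} (h : Subsingleton (W.presheaf.stalk x)) (t : ℤ) :
    Subsingleton ((CohB1.tensorMod W (O(t))).presheaf.stalk x) :=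
  haveI := h
  (stalkTensor x W (O(t))).symm.toEquiv.subsingleton

theorem subsingleton_stalk_of_euler_zero {W : (PS).Modules} (hW : Coh.IsCoh W) {P : ℚ[X]} (hP0 : P = 0)
    (hP : ∀ m : ℤ, (Curv2.euler k PS (CohB1.tensorMod W (O(m))) : ℚ) = P.eval (m : ℚ)) (x : PS) :
    Subsingleton (W.presheaf.stalk x) := by
  haveI := isNoetherian_projSpace (k := k) (n := n)
  have hs := dim_le hW (d := 0) (P := P) (by simp [hP0]) hP
  by_contra hx
  have h := HilbLib.coeff_pos (k := k) (AmpleEmb.isAmple_twistOne n k) 0 W hW hs P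
    (by rw [hP0, degree_zero]; exact WithBot.bot_lt_coe _) (fun m => by rw [chi_twist_eq, hP, Int.cast_natCast])
    ⟨fun _ => x, fun _ => hx, fun i j hij => absurd hij (by omega)⟩
  simp [hP0] at h

/-- Regular modules are generated in degree zero by forms in few general linear forms. -/
theorem exists_gen [Infinite k] : ∀ (j : ℕ) (W : (PS).Modules), Coh.IsCoh W → Curv2.IsMRegular k n W 0 →
    ∀ P : ℚ[X], P.degree < (j : WithBot ℕ) →
    (∀ m : ℤ, (Curv2.euler k PS (CohB1.tensorMod W (O(m))) : ℚ) = P.eval (m : ℚ)) →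
    ∃ c : Fin j → Fin (n + 1) → k, ∀ (t : ℕ) (s : Γ(obj W (t + 1), ⊤)),
      ∃ z : Fin j → Γ(obj W t, ⊤), s = ∑ v, topLin (lmap (c v) W t) (z v) := by
  haveI := isNoetherian_projSpace (k := k) (n := n)
  intro j
  induction j with
  | zero =>
    intro W hW hreg P hdeg hP
    refine ⟨Fin.elim0, fun t s => ⟨Fin.elim0, ?_⟩⟩
    have hP0 : P = 0 := degree_eq_bot.1 (WithBot.lt_coe_bot.1 hdeg)
    refine topLin_ext fun x => ?_
    haveI := subsingleton_obj_stalk (subsingleton_stalk_of_euler_zero hW hP0 hP x) ((t + 1 : ℕ) : ℤ)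
    exact Subsingleton.elim _ _
  | succ j ih =>
    intro W hW hreg P hdeg hP
    obtain ⟨c₀, -, hc₀, -⟩ := exists_general (n := n) hW hW (S := ⊥) bot_ne_top
    haveI := hc₀
    let C' := cokernel (linMap c₀ W)
    obtain ⟨c, hc⟩ := ih C' (isCoh_cokernel_linMap hW c₀) (regular_cokernel' hW hreg c₀)
      (P - P.comp (Polynomial.X - C 1)) (degree_diff_lt hdeg) (fun m => by
        rw [euler_cokernel hW c₀ m, Int.cast_sub, hP, hP, eval_sub, eval_comp]
        simp)
    refine ⟨Fin.cons c₀ c, fun t s => ?_⟩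
    obtain ⟨zc, hzc⟩ := hc t (topLin (twMap ((t + 1 : ℕ) : ℤ) (cokernel.π (linMap c₀ W))) s)
    have hsurj : Function.Surjective (topLin (twMap (t : ℤ) (cokernel.π (linMap c₀ W)))) := by
      haveI : Subsingleton (Coh.HH PS (twSeq (ShortComplex.mk (linMap c₀ W) _ (cokernel.condition _)) (t : ℤ)).X₁ (0 + 1)) :=
        HT.twist rfl (vanish_ge hW hreg le_rfl (by push_cast; omega))
      exact surjective_topLin (shortExact_twSeq (shortExact_coker (linMap c₀ W)) (t : ℤ))
    choose zl hzl using fun v => hsurj (zc v)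
    have hker : topLin (twMap ((t + 1 : ℕ) : ℤ) (cokernel.π (linMap c₀ W)))
        (s - ∑ v, topLin (lmap (c v) W t) (zl v)) = 0 := by
      rw [map_sub, map_sum, sub_eq_zero, hzc]
      refine Finset.sum_congr rfl fun v _ => ?_
      rw [← hzl v]
      exact congr($(congrArg (fun f => topLin f) (lmap_natural (cokernel.π (linMap c₀ W)) (c v) t)) (zl v)).symm
    obtain ⟨y, hy⟩ := exists_topLin_eq (shortExact_twSeq (shortExact_coker (linMap c₀ W)) ((t + 1 : ℕ) : ℤ)) _ hker
    have hiso : IsIso (shiftAux W (-1) ((t + 1 : ℕ) : ℤ) (t : ℤ) (shift_eq t)) := inferInstance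
    refine ⟨Fin.cons (topLin (CategoryTheory.inv (shiftAux W (-1) ((t + 1 : ℕ) : ℤ) (t : ℤ) (shift_eq t))) y) zl, ?_⟩
    rw [Fin.sum_univ_succ, Fin.cons_zero, Fin.cons_zero]
    simp only [Fin.cons_succ]
    refine eq_add_of_sub_eq (hy.symm.trans ?_)
    have e : lmap c₀ W t = shiftAux W (-1) ((t + 1 : ℕ) : ℤ) (t : ℤ) (shift_eq t) ≫
        twMap ((t + 1 : ℕ) : ℤ) (linMap c₀ W) := rfl
    rw [e]
    exact (congr($(congrArg (fun f => topLin f) (IsIso.inv_hom_id_assoc
      (shiftAux W (-1) ((t + 1 : ℕ) : ℤ) (t : ℤ) (shift_eq t)) (twMap ((t + 1 : ℕ) : ℤ) (linMap c₀ W)))) y)).symm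

end Groth.Agent.GrothBddLib
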