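import Mathlib.RingTheory.MvPolynomial.Homogeneous
import Mathlib.RingTheory.Polynomial.UniqueFactorization
import Mathlib.RingTheory.UniqueFactorizationDomain.GCDMonoid
import Mathlib.Algebra.MvPolynomial.NoZeroDivisors
import Mathlib.LinearAlgebra.LinearIndependent.Lemmas
import Mathlib.LinearAlgebra.FiniteDimensional.Lemmas
import Mathlib.Data.Sym.Card

/-!
# Torsion-free graded quotients of free modules over polynomial rings are images of matrices of forms
-/

set_option autoImplicit false
set_option linter.unusedSectionVars false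
set_option maxHeartbeats 800000

universe u

open MvPolynomial

noncomputable section

namespace Groth.Agent.GrothBddLib

variable {K : Type u} [Field K] {σ : Type} [Finite σ]

local notation "R" => MvPolynomial σ K

theorem hc_mul {p a : R} {e : ℕ} (ha : a.IsHomogeneous e) (t : ℕ) :
    homogeneousComponent (t + e) (p * a) = homogeneousComponent t p * a := by
  conv_lhs => rw [← sum_homogeneousComponent p, Finset.sum_mul, map_sum]
  have h : ∀ i, homogeneousComponent (t + e) (homogeneousComponent i p * a) =
      if i = t then homogeneousComponent i p * a else 0 := fun i => by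
    rw [homogeneousComponent_of_mem ((homogeneousComponent_isHomogeneous i p).mul ha)]
    exact if_congr ⟨fun h => by omega, fun h => by omega⟩ rfl rfl
  simp only [h, Finset.sum_ite_eq', Finset.mem_range]
  split_ifs with ht
  · rfl
  · rw [homogeneousComponent_eq_zero (h := by omega), zero_mul]

theorem hc_mul_low {p a : R} {e : ℕ} (ha : a.IsHomogeneous e) {t : ℕ} (ht : t < e) :
    homogeneousComponent t (p * a) = 0 := by
  conv_lhs => rw [← sum_homogeneousComponent p, Finset.sum_mul, map_sum]
  refine Finset.sum_eq_zero fun i _ => ?_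
  rw [homogeneousComponent_of_mem ((homogeneousComponent_isHomogeneous i p).mul ha), if_neg (by omega)]

/-- Divisibility conditions cut out a principal ideal. -/
theorem exists_dvd_iff {α ι : Type*} [CommRing α] [IsDomain α] [UniqueFactorizationMonoid α] {g : α} (hg : g ≠ 0) (a : ι → α)
    (s : Finset ι) : ∃ b : α, b ≠ 0 ∧ ∀ x : α, (∀ i ∈ s, g ∣ x * a i) ↔ b ∣ x := by
  classical
  letI := UniqueFactorizationMonoid.toGCDMonoid α
  induction s using Finset.induction with
  | empty => exact ⟨1, one_ne_zero, fun x => by simp⟩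
  | @insert i s hi ih =>
    obtain ⟨b, hb0, hb⟩ := ih
    obtain ⟨c, hc⟩ := gcd_dvd_left g (a i)
    have hd : gcd g (a i) ≠ 0 := fun h => hg (by rw [hc, h, zero_mul])
    have hc0 : c ≠ 0 := fun h => hg (by rw [hc, h, mul_zero])
    refine ⟨lcm c b, fun h => (lcm_eq_zero_iff c b).1 h |>.elim hc0 hb0, fun x => ?_⟩
    rw [Finset.forall_mem_insert, hb, lcm_dvd_iff]
    refine and_congr_left fun _ => ?_
    have h1 : g ∣ x * a i ↔ g ∣ x * gcd g (a i) := by
      refine ⟨fun h => ?_, fun h => h.trans (mul_dvd_mul_left x (gcd_dvd_right g (a i)))⟩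
      exact ((gcd_mul_left' x g (a i)).dvd_iff_dvd_right).1 (dvd_gcd (dvd_mul_left g x) h)
    rw [h1]
    generalize gcd g (a i) = dd at hc hd ⊢
    rw [hc, mul_comm x]
    exact mul_dvd_mul_iff_left hd

variable {m : ℕ}

/-- Stable under taking components. -/
def IsGraded (N : Submodule R (Fin m → R)) : Prop :=
  ∀ x ∈ N, ∀ t : ℕ, (fun i => homogeneousComponent t (x i)) ∈ N

/-- Torsion-free quotient. -/
def IsSat (N : Submodule R (Fin m → R)) : Prop :=
  ∀ (g : R) (x : Fin m → R), g ≠ 0 → g • x ∈ N → x ∈ N

variable (K σ m) in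
/-- The vectors of forms of degree `t`. -/
def piece (t : ℕ) : Submodule K (Fin m → R) := Submodule.pi Set.univ fun _ => homogeneousSubmodule σ K t

theorem mem_piece {t : ℕ} {x : Fin m → R} : x ∈ piece K σ m t ↔ ∀ i, (x i).IsHomogeneous t := by
  simp [piece, mem_homogeneousSubmodule]

/-- The graded pieces of the quotient. -/
def qPiece (N : Submodule R (Fin m → R)) (t : ℕ) : Submodule K ((Fin m → R) ⧸ N) :=
  (piece K σ m t).map (N.mkQ.restrictScalars K)



/-- A basis at the generic point, denominators and numerators. -/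
theorem exists_basis {N : Submodule R (Fin m → R)} (hgr : IsGraded N) (hsat : IsSat N) :
    ∃ (J : Finset (Fin m)) (b : Fin m → R) (e : Fin m → ℕ) (a : Fin m → Fin m → R),
      (∀ c : Fin m → R, (∀ i, i ∉ J → c i = 0) → c ∈ N → c = 0) ∧
      ∀ j, b j ≠ 0 ∧ (b j).IsHomogeneous (e j) ∧ (∀ i, i ∉ J → a j i = 0) ∧ (∀ i, (a j i).IsHomogeneous (e j)) ∧
        b j • (Pi.single j 1 : Fin m → R) - a j ∈ N ∧
        ∀ g : R, (∃ c : Fin m → R, (∀ i, i ∉ J → c i = 0) ∧ g • (Pi.single j 1 : Fin m → R) - c ∈ N) → b j ∣ g := by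
  classical
  let Ind : Finset (Fin m) → Prop := fun J => ∀ c : Fin m → R, (∀ i, i ∉ J → c i = 0) → c ∈ N → c = 0
  obtain ⟨J, hJ, hmax⟩ := (Set.toFinite {J | Ind J}).exists_maximal
    ⟨∅, fun c hc _ => funext fun i => hc i (Finset.notMem_empty i)⟩
  have hex : ∀ j, ∃ g : R, g ≠ 0 ∧ ∃ c : Fin m → R, (∀ i, i ∉ J → c i = 0) ∧ g • (Pi.single j 1 : Fin m → R) - c ∈ N := by
    intro j
    by_cases hj : j ∈ J
    · refine ⟨1, one_ne_zero, Pi.single j 1, fun i hi => ?_, by simp⟩
      rw [Pi.single_eq_of_ne]
      rintro rfl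
      exact hi hj
    · have : ¬ Ind (insert j J) := fun h => hj ((hmax h (Finset.subset_insert j J)) (Finset.mem_insert_self j J))
      simp only [Ind, not_forall] at this
      obtain ⟨c, hc, hcN, hc0⟩ := this
      refine ⟨c j, fun h => hc0 (hJ c (fun i hi => ?_) hcN), fun i => if i = j then 0 else -c i,
        fun i hi => ?_, ?_⟩
      · by_cases hij : i = j
        · rw [hij, h]
        · exact hc i (by simp [hij, hi])
      · by_cases hij : i = j
        · simp [hij]
        · simp [hij, hc i (by simp [hij, hi])]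
      · convert hcN using 1
        funext i
        by_cases hij : i = j
        · simp [hij]
        · simp [hij, Pi.single_eq_of_ne hij]
  have main : ∀ j, ∃ (b : R) (e : ℕ) (a : Fin m → R), b ≠ 0 ∧ b.IsHomogeneous e ∧ (∀ i, i ∉ J → a i = 0) ∧
      (∀ i, (a i).IsHomogeneous e) ∧ b • (Pi.single j 1 : Fin m → R) - a ∈ N ∧
      ∀ g : R, (∃ c : Fin m → R, (∀ i, i ∉ J → c i = 0) ∧ g • (Pi.single j 1 : Fin m → R) - c ∈ N) → b ∣ g := by
    intro j
    obtain ⟨g₀, hg₀, a₀, ha₀, hN₀⟩ := hex j
    obtain ⟨b, hb0, hb⟩ := exists_dvd_iff hg₀ a₀ Finset.univ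
    have hI : ∀ g : R, (∃ c : Fin m → R, (∀ i, i ∉ J → c i = 0) ∧ g • (Pi.single j 1 : Fin m → R) - c ∈ N) ↔ b ∣ g := by
      intro g
      rw [← hb g]
      constructor
      · rintro ⟨c, hc, hcN⟩ i -
        have h0 : g • a₀ - g₀ • c = 0 := hJ _ (fun i hi => by simp [ha₀ i hi, hc i hi]) (by
          have := N.sub_mem (N.smul_mem g₀ hcN) (N.smul_mem g hN₀)
          convert this using 1
          funext i
          simp only [Pi.sub_apply, Pi.smul_apply, smul_eq_mul]
          ring)
        refine ⟨c i, ?_⟩
        have := congr_fun h0 i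
        simp only [Pi.sub_apply, Pi.smul_apply, smul_eq_mul, Pi.zero_apply, sub_eq_zero] at this
        exact this
      · intro h
        choose c hc using fun i => h i (Finset.mem_univ i)
        refine ⟨c, fun i hi => ?_, hsat g₀ _ hg₀ ?_⟩
        · have := hc i
          rw [ha₀ i hi, mul_zero] at this
          exact (mul_eq_zero.1 this.symm).resolve_left hg₀
        · convert N.smul_mem g hN₀ using 1
          funext i
          simp only [Pi.sub_apply, Pi.smul_apply, smul_eq_mul]
          rw [mul_sub, mul_sub, ← hc i]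
          ring
    obtain ⟨c, hc, hcN⟩ := (hI b).2 dvd_rfl
    set e := b.totalDegree
    have htop : homogeneousComponent e b ≠ 0 := by
      obtain ⟨β, hβ, hβd⟩ := Finset.exists_mem_eq_sup b.support (support_nonempty.2 hb0) fun s => s.sum fun _ n => n
      intro h
      have h2 := congrArg (coeff β) h
      rw [coeff_homogeneousComponent, if_pos (by rw [Finsupp.degree_apply]; exact hβd.symm), coeff_zero] at h2
      exact (mem_support_iff.1 hβ) h2
    have hmem : homogeneousComponent e b • (Pi.single j 1 : Fin m → R) - (fun i => homogeneousComponent e (c i)) ∈ N := by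
      convert hgr _ hcN e using 1
      funext i
      by_cases hij : i = j
      · simp [hij]
      · simp [Pi.single_eq_of_ne hij]
    obtain ⟨q, hq⟩ := (hI _).1 ⟨_, fun i hi => show homogeneousComponent e (c i) = 0 by rw [hc i hi, map_zero], hmem⟩
    have hq0 : q ≠ 0 := fun h => htop (by rw [hq, h, mul_zero])
    have hdeg : q.totalDegree = 0 := by
      have h1 := totalDegree_mul_of_isDomain hb0 hq0
      rw [← hq, (homogeneousComponent_isHomogeneous e b).totalDegree htop] at h1
      omega
    obtain ⟨r, rfl⟩ : ∃ r : K, q = C r := ⟨coeff 0 q, totalDegree_eq_zero_iff_eq_C.1 hdeg⟩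
    have hbh : b.IsHomogeneous e := by
      have hr : r ≠ 0 := fun h => hq0 (by rw [h, map_zero])
      have : b = C r⁻¹ * homogeneousComponent e b := by
        rw [hq, mul_comm b, ← mul_assoc, ← map_mul, inv_mul_cancel₀ hr, map_one, one_mul]
      rw [this]
      exact (homogeneousComponent_isHomogeneous e b).C_mul _
    refine ⟨b, e, fun i => homogeneousComponent e (c i), hb0, hbh, fun i hi => show homogeneousComponent e (c i) = 0 by rw [hc i hi, map_zero],
      fun i => homogeneousComponent_isHomogeneous e (c i), ?_, fun g => (hI g).1⟩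
    rwa [homogeneousComponent_eq_self hbh] at hmem
  choose b e a h using main
  exact ⟨J, b, e, a, hJ, h⟩

end Groth.Agent.GrothBddLib
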