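import Groth.Agent.GrothBddLib.GradedSub
import Mathlib.LinearAlgebra.Matrix.Rank
import Mathlib.LinearAlgebra.Matrix.ToLin
import Mathlib.LinearAlgebra.FiniteDimensional.Basic

/-!
# Graded pieces of the image of a matrix of forms
-/

set_option autoImplicit false
set_option linter.unusedSectionVars false
set_option maxHeartbeats 800000

universe u

open MvPolynomial

noncomputable section

namespace Groth.Agent.GrothBddLib

variable {σ : Type} [Fintype σ] [DecidableEq σ]

/-- The exponent of a monomial of degree `t`. -/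
def expo {t : ℕ} (s : Sym σ t) : σ →₀ ℕ := Multiset.toFinsupp (s : Multiset σ)

theorem degree_expo {t : ℕ} (s : Sym σ t) : (expo s).degree = t := by
  have h := Finsupp.card_toMultiset (expo s)
  simp only [expo, Multiset.toFinsupp_toMultiset, Sym.card_coe] at h
  rw [Finsupp.degree_apply]
  exact h.symm

theorem expo_injective {t : ℕ} : Function.Injective (expo : Sym σ t → σ →₀ ℕ) := fun s s' h =>
  Sym.coe_injective (Multiset.toFinsupp.injective h)

theorem exists_expo {t : ℕ} {β : σ →₀ ℕ} (h : β.degree = t) : ∃ s : Sym σ t, expo s = β :=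
  ⟨⟨Finsupp.toMultiset β, by rw [Finsupp.card_toMultiset]; exact h⟩, by simp [expo]⟩

variable {B : Type u} [CommRing B] {m : ℕ}

/-- A matrix acting on vectors of polynomials. -/
def mulA (A : Fin m → Fin m → MvPolynomial σ B) :
    (Fin m → MvPolynomial σ B) →ₗ[MvPolynomial σ B] (Fin m → MvPolynomial σ B) where
  toFun x i := ∑ j, A i j * x j
  map_add' x y := funext fun i => by simp [mul_add, Finset.sum_add_distrib]
  map_smul' r x := funext fun i => by simp [Finset.mul_sum, mul_left_comm]

/-- The matrix in the monomial bases. -/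
def degMat (A : Fin m → Fin m → MvPolynomial σ B) (D t : ℕ) :
    Matrix (Fin m × Sym σ (t + D)) (Fin m × Sym σ t) B :=
  fun ib ja => coeff (expo ib.2) (A ib.1 ja.1 * monomial (expo ja.2) 1)

theorem degMat_map {C : Type u} [CommRing C] (φ : B →+* C) (A : Fin m → Fin m → MvPolynomial σ B) (D t : ℕ) :
    (degMat A D t).map φ = degMat (fun i j => MvPolynomial.map φ (A i j)) D t := by
  ext ib ja
  simp only [degMat, Matrix.map_apply]
  rw [← coeff_map, map_mul, map_monomial, map_one]

/-- Coefficients in degree `t`. -/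
def coords (t : ℕ) : (Fin m → MvPolynomial σ B) →ₗ[B] (Fin m × Sym σ t → B) where
  toFun p js := coeff (expo js.2) (p js.1)
  map_add' p q := funext fun js => by simp
  map_smul' r p := funext fun js => by simp

/-- Vectors with given coefficients in degree `t`. -/
def ofCoords (t : ℕ) : (Fin m × Sym σ t → B) →ₗ[B] (Fin m → MvPolynomial σ B) where
  toFun v j := ∑ s, monomial (expo s) (v (j, s))
  map_add' v w := funext fun j => by simp [Finset.sum_add_distrib]
  map_smul' r v := funext fun j => by simp [Finset.smul_sum, MvPolynomial.smul_monomial]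

theorem coords_ofCoords {t : ℕ} (v : Fin m × Sym σ t → B) : coords t (ofCoords t v) = v := by
  funext ⟨j, s⟩
  show coeff (expo s) (∑ s', monomial (expo s') (v (j, s'))) = v (j, s)
  rw [coeff_sum, Finset.sum_eq_single s]
  · simp
  · intro s' _ hne
    rw [coeff_monomial, if_neg (fun h => hne (expo_injective h))]
  · simp

theorem ofCoords_coords_of_homogeneous {t : ℕ} {p : Fin m → MvPolynomial σ B} (hp : ∀ i, (p i).IsHomogeneous t) :
    ofCoords t (coords t p) = p := by
  funext j
  show ∑ s : Sym σ t, monomial (expo s) (coeff (expo s) (p j)) = p j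
  ext β
  rw [coeff_sum]
  by_cases hβ : β.degree = t
  · obtain ⟨s, rfl⟩ := exists_expo hβ
    rw [Finset.sum_eq_single s]
    · simp
    · intro s' _ hne
      rw [coeff_monomial, if_neg (fun h => hne (expo_injective h))]
    · simp
  · rw [(hp j).coeff_eq_zero hβ]
    refine Finset.sum_eq_zero fun s _ => ?_
    rw [coeff_monomial, if_neg]
    intro h
    exact hβ (h ▸ degree_expo s)

theorem coords_mulA (A : Fin m → Fin m → MvPolynomial σ B) {D t : ℕ} (v : Fin m × Sym σ t → B) :
    coords (t + D) (mulA A (ofCoords t v)) = (degMat A D t).mulVec v := by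
  funext ⟨i, β⟩
  show coeff (expo β) (∑ j, A i j * ∑ s, monomial (expo s) (v (j, s))) = ∑ ja, _ * v ja
  rw [coeff_sum, Fintype.sum_prod_type]
  refine Finset.sum_congr rfl fun j _ => ?_
  rw [Finset.mul_sum, coeff_sum]
  refine Finset.sum_congr rfl fun s _ => ?_
  show _ = coeff (expo β) (A i j * monomial (expo s) 1) * v (j, s)
  rw [mul_comm _ (v (j, s)), ← coeff_C_mul]
  congr 1
  rw [mul_left_comm, C_mul_monomial, mul_one]

variable {K : Type u} [Field K]

local notation "R" => MvPolynomial σ K

/-- Vectors of forms of degree `t` supported on `S`. -/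
def pieceOn (K : Type u) [Field K] (σ : Type) [Fintype σ] (m : ℕ) (S : Finset (Fin m)) (t : ℕ) :
    Submodule K (Fin m → MvPolynomial σ K) :=
  piece K σ m t ⊓ Submodule.pi Set.univ fun i => if i ∈ S then ⊤ else ⊥

theorem mem_pieceOn {S : Finset (Fin m)} {t : ℕ} {x : Fin m → R} :
    x ∈ pieceOn K σ m S t ↔ (∀ i, (x i).IsHomogeneous t) ∧ ∀ i, i ∉ S → x i = 0 := by
  simp only [pieceOn, Submodule.mem_inf, mem_piece, Submodule.mem_pi, Set.mem_univ, forall_const]
  refine and_congr_right fun _ => forall_congr' fun i => ?_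
  by_cases hi : i ∈ S <;> simp [hi]

theorem pieceOn_univ (t : ℕ) : pieceOn K σ m Finset.univ t = piece K σ m t := by
  ext x
  simp [mem_pieceOn, mem_piece]

theorem ofCoords_coords {t : ℕ} {p : Fin m → R} (hp : ∀ i, (p i).IsHomogeneous t) :
    ofCoords t (coords t p) = p :=
  ofCoords_coords_of_homogeneous hp

theorem isHomogeneous_ofCoords {t : ℕ} (v : Fin m × Sym σ t → K) (j : Fin m) : (ofCoords t v j).IsHomogeneous t :=
  IsHomogeneous.sum _ _ _ fun s _ => isHomogeneous_monomial _ (degree_expo s)

/-- Coordinates on forms supported on `S`. -/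
def pieceOnEquiv (S : Finset (Fin m)) (t : ℕ) : pieceOn K σ m S t ≃ₗ[K] (↥S × Sym σ t → K) :=
  LinearEquiv.ofBijective
    { toFun := fun x is => coords t x.1 (is.1.1, is.2)
      map_add' := fun x y => funext fun is => by simp
      map_smul' := fun r x => funext fun is => by simp }
    ⟨fun x y h => Subtype.ext (by
        obtain ⟨hx, hx'⟩ := mem_pieceOn.1 x.2
        obtain ⟨hy, hy'⟩ := mem_pieceOn.1 y.2
        rw [← ofCoords_coords hx, ← ofCoords_coords hy]
        congr 1
        funext ⟨i, s⟩
        by_cases hi : i ∈ S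
        · exact congr_fun h (⟨i, hi⟩, s)
        · show coeff _ (x.1 i) = coeff _ (y.1 i)
          rw [hx' i hi, hy' i hi]),
      fun w => ⟨⟨ofCoords t fun js => if h : js.1 ∈ S then w (⟨js.1, h⟩, js.2) else 0,
          mem_pieceOn.2 ⟨isHomogeneous_ofCoords _, fun i hi => by
            show ∑ s, monomial (expo s) _ = (0 : R)
            simp [hi]⟩⟩, funext fun ⟨⟨i, hi⟩, s⟩ => by
        show coords t (ofCoords t _) (i, s) = _
        rw [coords_ofCoords, dif_pos hi]⟩⟩

theorem finrank_pieceOn (S : Finset (Fin m)) (t : ℕ) :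
    Module.finrank K (pieceOn K σ m S t) = S.card * Fintype.card (Sym σ t) := by
  rw [(pieceOnEquiv S t).finrank_eq, Module.finrank_pi, Fintype.card_prod, Fintype.card_coe]

instance (S : Finset (Fin m)) (t : ℕ) : FiniteDimensional K (pieceOn K σ m S t) :=
  (pieceOnEquiv S t).symm.finiteDimensional

instance (t : ℕ) : FiniteDimensional K (piece K σ m t) := by
  rw [← pieceOn_univ]
  infer_instance

/-- The quotient pieces are the images of the matrix. -/
theorem finrank_qPiece_eq_rank {N : Submodule R (Fin m → R)} (A : Fin m → Fin m → R) {D : ℕ}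
    (hA : ∀ i j, (A i j).IsHomogeneous D) (hker : LinearMap.ker (mulA A) = N) (t : ℕ) :
    Module.finrank K (qPiece N t) = (degMat A D t).rank := by
  let f := ((mulA A).restrictScalars K).comp (piece K σ m t).subtype
  let q := (N.mkQ.restrictScalars K).comp (piece K σ m t).subtype
  have h1 : qPiece N t = LinearMap.range q := by
    rw [qPiece, LinearMap.range_comp, Submodule.range_subtype]
  have h2 : LinearMap.ker q = LinearMap.ker f := by
    ext x
    simp only [q, f, LinearMap.mem_ker, LinearMap.comp_apply, LinearMap.restrictScalars_apply, Submodule.mkQ_apply,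
      Submodule.Quotient.mk_eq_zero, ← hker]
  have e1 := q.finrank_range_add_finrank_ker
  have e2 := f.finrank_range_add_finrank_ker
  rw [h2] at e1
  rw [h1, show Module.finrank K (LinearMap.range q) = Module.finrank K (LinearMap.range f) by omega]
  have hhom : ∀ x : piece K σ m t, ∀ i, (f x i).IsHomogeneous (t + D) := fun x i => by
    show (∑ j, A i j * x.1 j).IsHomogeneous (t + D)
    refine IsHomogeneous.sum _ _ _ fun j _ => ?_
    rw [add_comm t D]
    exact (hA i j).mul (mem_piece.1 x.2 j)
  let e := (LinearEquiv.ofEq _ _ (pieceOn_univ (K := K) (σ := σ) (m := m) t).symm)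
  have h3 : LinearMap.range ((coords (t + D)).comp f) = LinearMap.range (degMat A D t).mulVecLin := by
    ext w
    constructor
    · rintro ⟨x, rfl⟩
      refine ⟨coords t x.1, ?_⟩
      rw [Matrix.mulVecLin_apply, ← coords_mulA, ofCoords_coords (mem_piece.1 x.2)]
      rfl
    · rintro ⟨v, rfl⟩
      exact ⟨⟨ofCoords t v, mem_piece.2 (isHomogeneous_ofCoords v)⟩, coords_mulA A v⟩
  rw [Matrix.rank, ← h3]
  have h4 : LinearMap.ker ((coords (t + D)).comp f) = LinearMap.ker f := by
    ext x
    refine ⟨fun h => ?_, fun h => ?_⟩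
    · rw [LinearMap.mem_ker, LinearMap.comp_apply] at h
      rw [LinearMap.mem_ker, ← ofCoords_coords (hhom x), h, map_zero]
    · rw [LinearMap.mem_ker, LinearMap.comp_apply, LinearMap.mem_ker.1 h, map_zero]
  have e3 := ((coords (t + D)).comp f).finrank_range_add_finrank_ker
  rw [h4] at e3
  omega

theorem finrank_qPiece_le {N : Submodule R (Fin m → R)} (A : Fin m → Fin m → R) {D : ℕ}
    (hA : ∀ i j, (A i j).IsHomogeneous D) (hker : LinearMap.ker (mulA A) = N) {J : Finset (Fin m)}
    (hJ : ∀ i j, i ∉ J → A i j = 0) (t : ℕ) :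
    Module.finrank K (qPiece N t) ≤ J.card * Fintype.card (Sym σ (t + D)) := by
  let f := ((mulA A).restrictScalars K).comp (piece K σ m t).subtype
  let q := (N.mkQ.restrictScalars K).comp (piece K σ m t).subtype
  have h1 : qPiece N t = LinearMap.range q := by
    rw [qPiece, LinearMap.range_comp, Submodule.range_subtype]
  have h2 : LinearMap.ker q = LinearMap.ker f := by
    ext x
    simp only [q, f, LinearMap.mem_ker, LinearMap.comp_apply, LinearMap.restrictScalars_apply, Submodule.mkQ_apply,
      Submodule.Quotient.mk_eq_zero, ← hker]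
  have e1 := q.finrank_range_add_finrank_ker
  have e2 := f.finrank_range_add_finrank_ker
  rw [h2] at e1
  rw [h1, show Module.finrank K (LinearMap.range q) = Module.finrank K (LinearMap.range f) by omega,
    ← finrank_pieceOn (K := K)]
  refine Submodule.finrank_mono ?_
  rintro _ ⟨x, rfl⟩
  refine mem_pieceOn.2 ⟨fun i => ?_, fun i hi => show (∑ j, A i j * x.1 j) = 0 from Finset.sum_eq_zero fun j _ => by rw [hJ i j hi, zero_mul]⟩
  show (∑ j, A i j * x.1 j).IsHomogeneous (t + D)
  refine IsHomogeneous.sum _ _ _ fun j _ => ?_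
  rw [add_comm t D]
  exact (hA i j).mul (mem_piece.1 x.2 j)

/-- One more generator adds at least the forms modulo its denominator. -/
theorem le_finrank_qPiece {N : Submodule R (Fin m → R)} {J : Finset (Fin m)}
    (hind : ∀ c : Fin m → R, (∀ i, i ∉ J → c i = 0) → c ∈ N → c = 0) {j : Fin m} (hj : j ∉ J) {b : R} (hb : b ≠ 0)
    {e : ℕ} (hbe : b.IsHomogeneous e)
    (hdvd : ∀ g : R, (∃ c : Fin m → R, (∀ i, i ∉ J → c i = 0) ∧ g • (Pi.single j 1 : Fin m → R) - c ∈ N) → b ∣ g)
    (t : ℕ) (ht : e ≤ t) :
    (J.card + 1) * Fintype.card (Sym σ t) ≤ Module.finrank K (qPiece N t) + Fintype.card (Sym σ (t - e)) := by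
  let U := pieceOn K σ m (insert j J) t
  let q := (N.mkQ.restrictScalars K).comp U.subtype
  have hle : LinearMap.range q ≤ qPiece N t := by
    rintro _ ⟨x, rfl⟩
    exact Submodule.mem_map_of_mem (mem_piece.2 (mem_pieceOn.1 x.2).1)
  haveI : FiniteDimensional K (qPiece N t) := by unfold qPiece; infer_instance
  have h1 := Submodule.finrank_mono hle
  have h2 := q.finrank_range_add_finrank_ker
  rw [finrank_pieceOn, Finset.card_insert_of_notMem hj] at h2
  suffices h3 : Module.finrank K (LinearMap.ker q) ≤ Fintype.card (Sym σ (t - e)) by omega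
  let T : Submodule K R := (homogeneousSubmodule σ K (t - e)).map (LinearMap.mulLeft K b)
  let g : LinearMap.ker q →ₗ[K] R := (LinearMap.proj j).comp (U.subtype.comp (LinearMap.ker q).subtype)
  have hg : Function.Injective g := by
    rw [injective_iff_map_eq_zero]
    intro x hx
    have hxN : x.1.1 ∈ N := (Submodule.Quotient.mk_eq_zero N).1 x.2
    refine Subtype.ext (Subtype.ext (hind _ (fun i hi => ?_) hxN))
    by_cases hij : i = j
    · exact hij ▸ hx
    · exact (mem_pieceOn.1 x.1.2).2 i (by simp [hij, hi])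
  have hrange : ∀ x, g x ∈ T := fun x => by
    have hxN : x.1.1 ∈ N := (Submodule.Quotient.mk_eq_zero N).1 x.2
    obtain ⟨r, hr⟩ := hdvd (x.1.1 j) ⟨fun i => if i = j then 0 else -x.1.1 i, fun i hi => by
      by_cases hij : i = j
      · simp [hij]
      · simp [hij, (mem_pieceOn.1 x.1.2).2 i (by simp [hij, hi])], by
      convert hxN using 1
      funext i
      by_cases hij : i = j
      · simp [hij]
      · simp [hij, Pi.single_eq_of_ne hij]⟩
    refine ⟨homogeneousComponent (t - e) r, homogeneousComponent_mem (t - e) r, ?_⟩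
    show b * homogeneousComponent (t - e) r = x.1.1 j
    rw [mul_comm, ← hc_mul hbe, Nat.sub_add_cancel ht, mul_comm r b, ← hr,
      homogeneousComponent_eq_self ((mem_pieceOn.1 x.1.2).1 j)]
  let e₁ : (homogeneousSubmodule σ K (t - e)) ≃ₗ[K] T :=
    Submodule.equivMapOfInjective _ (fun a c h => mul_left_cancel₀ hb h) _
  let e₂ : (homogeneousSubmodule σ K (t - e)) ≃ₗ[K] pieceOn K σ 1 Finset.univ (t - e) :=
    { toFun := fun p => ⟨fun _ => p.1, mem_pieceOn.2 ⟨fun _ => p.2, fun i hi => absurd (Finset.mem_univ i) hi⟩⟩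
      invFun := fun p => ⟨p.1 0, (mem_pieceOn.1 p.2).1 0⟩
      map_add' := fun p q => rfl
      map_smul' := fun r p => rfl
      left_inv := fun p => rfl
      right_inv := fun p => Subtype.ext (funext fun i => by rw [Subsingleton.elim i 0]) }
  haveI : FiniteDimensional K (homogeneousSubmodule σ K (t - e)) := e₂.symm.finiteDimensional
  haveI : FiniteDimensional K T := e₁.finiteDimensional
  have := LinearMap.finrank_le_finrank_of_injective (f := g.codRestrict T hrange)
    (fun a c h => hg (congrArg Subtype.val h))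
  rw [← e₁.finrank_eq, e₂.finrank_eq, finrank_pieceOn, Finset.card_univ, Fintype.card_fin, one_mul] at this
  exact this

end Groth.Agent.GrothBddLib
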