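import Groth.Agent.CMRegLib.Bound
import Groth.Agent.GrothBddLib.GradedSub
import Groth.Agent.RpushLib.Finite
import Mathlib.RingTheory.Adjoin.Basic

/-!
# Twisted sections as a graded module over forms in chosen linear forms
-/

set_option autoImplicit false
set_option backward.isDefEq.respectTransparency false
set_option linter.style.haveILetI false
set_option linter.unusedSectionVars false
set_option maxHeartbeats 200000

universe u

open CategoryTheory CategoryTheory.Limits AlgebraicGeometry MvPolynomial
open Groth.Agent.CMRegLib Groth.Agent.DCohLib Groth.Agent.PullbackMod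
open scoped TensorProduct

noncomputable section

namespace Groth.Agent.GrothBddLib

variable {k : Type u} [Field k] {n : ℕ}

local notation "PS" => CohB1.ProjSpace n k
local notation "O(" d ")" => Twist.twistProjSpace n k d

/-- The twists by natural numbers. -/
abbrev obj (W : (PS).Modules) (t : ℕ) : (PS).Modules := CohB1.tensorMod W (O((t : ℤ)))

/-- Twist of a map. -/
def twMap {W V : (PS).Modules} (b : ℤ) (f : W ⟶ V) : CohB1.tensorMod W (O(b)) ⟶ CohB1.tensorMod V (O(b)) :=
  (CurveLib.tensR (O(b))).map f

/-- Untwisting. -/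
def shiftAux (W : (PS).Modules) (a b c : ℤ) (h : a + b = c) :
    CohB1.tensorMod W (O(c)) ⟶ CohB1.tensorMod (CohB1.tensorMod W (O(a))) (O(b)) :=
  haveI := isIso_mulMap W h
  CategoryTheory.inv (mulMap W h)

instance isIso_shiftAux (W : (PS).Modules) (a b c : ℤ) (h : a + b = c) : IsIso (shiftAux W a b c h) := by
  haveI := isIso_mulMap W h
  unfold shiftAux
  infer_instance

theorem shift_eq (t : ℕ) : (-1 : ℤ) + ((t + 1 : ℕ) : ℤ) = (t : ℤ) := by omega

/-- Twist of a map, in integers. -/
def stepAux (W : (PS).Modules) (a b c : ℤ) (h : a + b = c) (f : CohB1.tensorMod W (O(a)) ⟶ W) :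
    CohB1.tensorMod W (O(c)) ⟶ CohB1.tensorMod W (O(b)) :=
  shiftAux W a b c h ≫ twMap b f

/-- Twist of a map out of `W(-1)`. -/
def stepOf (W : (PS).Modules) (f : CohB1.tensorMod W (O(-1)) ⟶ W) (t : ℕ) : obj W t ⟶ obj W (t + 1) :=
  stepAux W (-1) _ _ (shift_eq t) f

/-- Multiplication by a linear form. -/
def lmap (c : Fin (n + 1) → k) (W : (PS).Modules) (t : ℕ) : obj W t ⟶ obj W (t + 1) := stepOf W (linMap c W) t

/-- Multiplication by a coordinate. -/
def bmap (i : Fin (n + 1)) (W : (PS).Modules) (t : ℕ) : obj W t ⟶ obj W (t + 1) :=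
  stepOf W ((projData k n W).μ i 0 ≫ (zeroTwistIso W).hom) t

theorem stalkLin_tensR {M N : (PS).Modules} (b : ℤ) (f g : M ⟶ N) (x : PS) (r : (PS).presheaf.stalk x)
    (h : ∀ z, stalkLin f x z = r • stalkLin g x z) (z : (CohB1.tensorMod M (O(b))).presheaf.stalk x) :
    stalkLin (twMap b f) x z = r • stalkLin (twMap b g) x z := by
  obtain ⟨w, rfl⟩ := (stalkTensor x M (O(b))).surjective z
  refine (stalkTensor_natural_left x f w).trans (Eq.trans ?_ (congrArg (r • ·) (stalkTensor_natural_left x g w)).symm)
  rw [← map_smul]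
  congr 1
  rw [show stalkLin f x = r • stalkLin g x from LinearMap.ext fun z => (h z).trans rfl, LinearMap.rTensor_smul,
    LinearMap.smul_apply]

variable (W : Scheme.Modules (CohB1.ProjSpace n k))

theorem stalkLin_stepAux (a b c : ℤ) (h : a + b = c) (f g : CohB1.tensorMod W (O(a)) ⟶ W) (x : PS)
    (r : (PS).presheaf.stalk x) (hfg : ∀ z, stalkLin f x z = r • stalkLin g x z)
    (z : (CohB1.tensorMod W (O(c))).presheaf.stalk x) :
    stalkLin (stepAux W a b c h f) x z = r • stalkLin (stepAux W a b c h g) x z := by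
  rw [stepAux, stepAux, stalkLin_comp, stalkLin_comp, LinearMap.comp_apply, LinearMap.comp_apply]
  exact stalkLin_tensR b f g x r hfg _

theorem bijective_twMap {M N : (PS).Modules} (b : ℤ) (f : M ⟶ N) (x : PS)
    (hf : Function.Bijective (stalkLin f x)) : Function.Bijective (stalkLin (twMap b f) x) := by
  let e := LinearEquiv.ofBijective _ hf
  let T := fun L : (PS).Modules => stalkTensor x L (O(b))
  have h : ∀ w, stalkLin (twMap b f) x (T M w) = T N (e.toLinearMap.rTensor _ w) :=
    fun w => stalkTensor_natural_left x f w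
  have hb : Function.Bijective (e.toLinearMap.rTensor ((O(b)).presheaf.stalk x)) :=
    (e.rTensor _).bijective
  constructor
  · intro z z' hz
    obtain ⟨w, rfl⟩ := (T M).surjective z
    obtain ⟨w', rfl⟩ := (T M).surjective z'
    rw [h, h] at hz
    exact congrArg _ (hb.1 ((T N).injective hz))
  · intro z
    obtain ⟨w, rfl⟩ := (T N).surjective z
    obtain ⟨v, rfl⟩ := hb.2 w
    exact ⟨T M v, h v⟩

theorem bijective_stepAux (a b c : ℤ) (h : a + b = c) (f : CohB1.tensorMod W (O(a)) ⟶ W) (x : PS)
    (hf : Function.Bijective (stalkLin f x)) : Function.Bijective (stalkLin (stepAux W a b c h f) x) := by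
  rw [stepAux, stalkLin_comp, LinearMap.coe_comp]
  exact (bijective_twMap b f x hf).comp ((isIso_iff_stalk _).1 inferInstance x)

theorem stalkLin_linMap_ratio (c : Fin (n + 1) → k) {i : Fin (n + 1)} {x : PS} (hx : x ∈ AmpleEmb.stdOpen n k i)
    (w : (CohB1.tensorMod W (O(-1))).presheaf.stalk x) :
    stalkLin (linMap c W) x w = (PS).presheaf.germ _ x hx (linRatio c i) •
      stalkLin ((projData k n W).μ i 0 ≫ (zeroTwistIso W).hom) x w := by
  rw [linMap, stalkLin_comp, stalkLin_comp, LinearMap.comp_apply, LinearMap.comp_apply, stalkLin_linTw c W hx w,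
    map_smul]

theorem stalkLin_lmap (c : Fin (n + 1) → k) (t : ℕ) {i : Fin (n + 1)} {x : PS} (hx : x ∈ AmpleEmb.stdOpen n k i)
    (z : (obj W t).presheaf.stalk x) :
    stalkLin (lmap c W t) x z = (PS).presheaf.germ _ x hx (linRatio c i) • stalkLin (bmap i W t) x z :=
  stalkLin_stepAux W _ _ _ (shift_eq t) _ _ x _ (stalkLin_linMap_ratio W c hx) z

theorem bijective_bmap (t : ℕ) {i : Fin (n + 1)} {x : PS} (hx : x ∈ AmpleEmb.stdOpen n k i) :
    Function.Bijective (stalkLin (bmap i W t) x) := by
  refine bijective_stepAux W _ _ _ (shift_eq t) _ x ?_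
  rw [stalkLin_comp, LinearMap.coe_comp]
  exact (bijective_zeroTwist W x).comp ((projData k n W).bij i 0 x hx)

/-- Constants as global functions. -/
def constHom (n : ℕ) (k : Type u) [Field k] : k →+* Γ(CohB1.ProjSpace n k, ⊤) :=
  ((Scheme.ΓSpecIso (CommRingCat.of k)).inv ≫ (CohB1.ProjSpace.toSpec n k).appTop).hom

theorem constHom_apply (r : k) : constHom n k r = constΓ n r := rfl

instance moduleSections (M : (PS).Modules) : Module k Γ(M, ⊤) := Module.compHom _ (constHom n k)

theorem smul_def (M : (PS).Modules) (r : k) (s : Γ(M, ⊤)) : r • s = constΓ n r • s := rfl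

/-- A map of modules on global sections. -/
def topLin {M N : (PS).Modules} (f : M ⟶ N) : Γ(M, ⊤) →ₗ[k] Γ(N, ⊤) where
  toFun := f.app ⊤
  map_add' := map_add _
  map_smul' r s := f.app_smul _ s

theorem germ_topLin {M N : (PS).Modules} (f : M ⟶ N) (x : PS) (s : Γ(M, ⊤)) :
    N.presheaf.germ ⊤ x trivial (topLin f s) = stalkLin f x (M.presheaf.germ ⊤ x trivial s) :=
  (stalkLin_germ f x (show x ∈ (⊤ : (PS).Opens) from trivial) s).symm

theorem topLin_ext {M : (PS).Modules} {s s' : Γ(M, ⊤)}
    (h : ∀ x : PS, M.presheaf.germ ⊤ x trivial s = M.presheaf.germ ⊤ x trivial s') : s = s' :=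
  TopCat.Presheaf.section_ext (X := (PS).toTopCat) ⟨M.presheaf, M.isSheaf⟩ ⊤ s s' fun x _ => h x

variable {d : ℕ} (c : Fin (d + 1) → Fin (n + 1) → k)

/-- All the twisted sections. -/
abbrev Tot : Type u := ∀ t : ℕ, Γ(obj W t, ⊤)

/-- The shift by a form. -/
def shiftL (v : Fin (d + 1)) : Module.End k (Tot W) where
  toFun z t := match t with
    | 0 => 0
    | s + 1 => topLin (lmap (c v) W s) (z s)
  map_add' a b := funext fun t => by
    cases t with
    | zero => exact (add_zero 0).symm
    | succ s => exact map_add (topLin (lmap (c v) W s)) _ _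
  map_smul' r a := funext fun t => by
    cases t with
    | zero => exact (smul_zero r).symm
    | succ s => exact map_smul (topLin (lmap (c v) W s)) r _

theorem lmap_comm (a b : Fin (n + 1) → k) (t : ℕ) : lmap a W t ≫ lmap b W (t + 1) = lmap b W t ≫ lmap a W (t + 1) := by
  refine hom_ext_stalk fun x => LinearMap.ext fun z => ?_
  obtain ⟨i, hx⟩ := exists_mem (k := k) (n := n) x
  rw [stalkLin_comp, stalkLin_comp, LinearMap.comp_apply, LinearMap.comp_apply, stalkLin_lmap W a t hx,
    stalkLin_lmap W b t hx, map_smul, map_smul, stalkLin_lmap W b (t + 1) hx, stalkLin_lmap W a (t + 1) hx,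
    smul_smul, smul_smul, mul_comm]

theorem shiftL_comm (v w : Fin (d + 1)) : shiftL W c v * shiftL W c w = shiftL W c w * shiftL W c v :=
  LinearMap.ext fun z => funext fun t => by
    rcases t with _ | _ | t
    · rfl
    · show topLin (lmap (c v) W 0) 0 = topLin (lmap (c w) W 0) 0
      rw [map_zero, map_zero]
    · exact congr($(congrArg (fun f => topLin f) (lmap_comm W (c w) (c v) t)) (z t))

/-- The action of the polynomial ring. -/
def act : MvPolynomial (Fin (d + 1)) k →ₐ[k] Module.End k (Tot W) :=
  letI : CommRing (Algebra.adjoin k (Set.range (shiftL W c))) := Algebra.adjoinCommRingOfComm k (by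
    rintro _ ⟨v, rfl⟩ _ ⟨w, rfl⟩
    exact shiftL_comm W c v w)
  (Algebra.adjoin k (Set.range (shiftL W c))).val.comp
    (MvPolynomial.aeval fun v => (⟨shiftL W c v, Algebra.subset_adjoin ⟨v, rfl⟩⟩ :
      Algebra.adjoin k (Set.range (shiftL W c))))

theorem act_X (v : Fin (d + 1)) : act W c (MvPolynomial.X v) = shiftL W c v := by
  simp [act]

theorem act_C (r : k) (z : Tot W) (t : ℕ) : act W c (MvPolynomial.C r) z t = r • z t := by
  rw [← MvPolynomial.algebraMap_eq, AlgHom.commutes]
  rfl

/-- A form in the chosen linear forms divided by a power of a coordinate. -/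
def formRatio (i : Fin (n + 1)) :
    MvPolynomial (Fin (d + 1)) k →+* Γ(CohB1.ProjSpace n k, AmpleEmb.stdOpen n k i) :=
  MvPolynomial.eval₂Hom (((PS).presheaf.map (homOfLE (le_top : AmpleEmb.stdOpen n k i ≤ ⊤)).op).hom.comp (constHom n k))
    fun v => linRatio (c v) i

/-- Iterated multiplication by a coordinate. -/
def bpow (i : Fin (n + 1)) (t : ℕ) : ∀ e : ℕ, obj W t ⟶ obj W (t + e)
  | 0 => 𝟙 _
  | e + 1 => bpow i t e ≫ bmap i W (t + e)

theorem bijective_bpow (t : ℕ) {i : Fin (n + 1)} {x : PS} (hx : x ∈ AmpleEmb.stdOpen n k i) :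
    ∀ e, Function.Bijective (stalkLin (bpow W i t e) x)
  | 0 => (isIso_iff_stalk _).1 (inferInstanceAs (IsIso (𝟙 (obj W t)))) x
  | e + 1 => by
    rw [bpow, stalkLin_comp, LinearMap.coe_comp]
    exact (bijective_bmap W (t + e) hx).comp (bijective_bpow t hx e)

theorem act_low (p : MvPolynomial (Fin (d + 1)) k) {t : ℕ} (z : Tot W) (hz : ∀ s < t, z s = 0) :
    ∀ s < t, act W c p z s = 0 := by
  induction p using MvPolynomial.induction_on with
  | C r => intro s hs; rw [act_C, hz s hs, smul_zero]
  | add p q hp hq => intro s hs; rw [map_add]; exact (congrArg₂ (· + ·) (hp s hs) (hq s hs)).trans (add_zero 0)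
  | mul_X p v hp =>
    intro s hs
    rw [mul_comm, map_mul, act_X]
    cases s with
    | zero => rfl
    | succ s => exact (congrArg (topLin (lmap (c v) W s)) (hp s (by omega))).trans (map_zero _)

/-- A section placed in its degree. -/
def ins (t : ℕ) (s : Γ(obj W t, ⊤)) : Tot W := Pi.single t s

theorem ins_same (t : ℕ) (s : Γ(obj W t, ⊤)) : ins W t s t = s := Pi.single_eq_same _ _

theorem ins_ne {t r : ℕ} (h : r ≠ t) (s : Γ(obj W t, ⊤)) : ins W t s r = 0 := Pi.single_eq_of_ne h _

theorem germ_zero_smul {U : (PS).Opens} {x : PS} (hx : x ∈ U) {M : (PS).Modules} (z : M.presheaf.stalk x) :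
    (PS).presheaf.germ U x hx (0 : Γ(CohB1.ProjSpace n k, U)) • z = 0 :=
  (congrArg (· • z) (map_zero ((PS).presheaf.germ U x hx).hom)).trans (zero_smul _ z)

/-- The action in germs. -/
theorem germ_act (p : MvPolynomial (Fin (d + 1)) k) {t : ℕ} (s : Γ(obj W t, ⊤)) {i : Fin (n + 1)} {x : PS}
    (hx : x ∈ AmpleEmb.stdOpen n k i) (e : ℕ) :
    (obj W (t + e)).presheaf.germ ⊤ x trivial (act W c p (ins W t s) (t + e)) =
      (PS).presheaf.germ _ x hx (formRatio c i (homogeneousComponent e p)) •
        stalkLin (bpow W i t e) x ((obj W t).presheaf.germ ⊤ x trivial s) := by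
  induction p using MvPolynomial.induction_on generalizing e with
  | C r =>
    rw [act_C]
    cases e with
    | zero =>
      rw [MvPolynomial.homogeneousComponent_zero, MvPolynomial.coeff_zero_C]
      show (obj W t).presheaf.germ ⊤ x trivial (r • ins W t s t) = _ • stalkLin (𝟙 (obj W t)) x _
      rw [ins_same, smul_def, SubLib.germ_smul', stalkLin_id, LinearMap.id_apply, formRatio, eval₂Hom_C]
      congr 1
      exact (TopCat.Presheaf.germ_res_apply (PS).presheaf _ x hx _).symm
    | succ e =>
      rw [ins_ne W (show t + (e + 1) ≠ t by omega), smul_zero,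
        homogeneousComponent_eq_zero (h := by simp), map_zero]
      rw [map_zero (formRatio c i), germ_zero_smul]
  | add p q hp hq =>
    rw [map_add, map_add, map_add, map_add, add_smul, ← hp e, ← hq e]
    exact map_add ((obj W (t + e)).presheaf.germ ⊤ x trivial).hom _ _
  | mul_X p v hp =>
    cases e with
    | zero =>
      rw [hc_mul_low (isHomogeneous_X k v) Nat.one_pos, map_zero, germ_zero_smul, mul_comm p, map_mul, act_X]
      show (obj W t).presheaf.germ ⊤ x trivial (shiftL W c v (act W c p (ins W t s)) t) = 0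
      cases t with
      | zero => exact map_zero _
      | succ t' =>
        have h0 := act_low W c p (t := t' + 1) (ins W (t' + 1) s) (fun r hr => ins_ne W hr.ne _) t' (by omega)
        exact (congrArg ((obj W (t' + 1)).presheaf.germ ⊤ x trivial) ((congrArg (topLin (lmap (c v) W t')) h0).trans
          (map_zero _))).trans (map_zero _)
    | succ e =>
      rw [hc_mul (isHomogeneous_X k v), mul_comm p, map_mul, map_mul, act_X]
      show (obj W (t + e + 1)).presheaf.germ ⊤ x trivial
        (topLin (lmap (c v) W (t + e)) (act W c p (ins W t s) (t + e))) = _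
      rw [germ_topLin, hp e, map_smul, stalkLin_lmap W (c v) (t + e) hx, smul_smul, bpow, stalkLin_comp,
        LinearMap.comp_apply, map_mul, formRatio, eval₂Hom_X']
      rfl

/-- A form as a map of sheaves. -/
theorem exists_formMap (p : MvPolynomial (Fin (d + 1)) k) (t e : ℕ) :
    ∃ G : obj W t ⟶ obj W (t + e), ∀ (i : Fin (n + 1)) (x : PS) (hx : x ∈ AmpleEmb.stdOpen n k i)
      (z : (obj W t).presheaf.stalk x), stalkLin G x z =
        (PS).presheaf.germ _ x hx (formRatio c i (homogeneousComponent e p)) • stalkLin (bpow W i t e) x z := by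
  induction p using MvPolynomial.induction_on generalizing e with
  | C r =>
    cases e with
    | zero =>
      refine ⟨Formal.smulModΓ _ (constΓ n r), fun i x hx z => ?_⟩
      refine (BCLib.stalkLin_smulModΓ (obj W t) (constΓ n r) x z).trans ?_
      rw [MvPolynomial.homogeneousComponent_zero, MvPolynomial.coeff_zero_C, formRatio,
        eval₂Hom_C, bpow, stalkLin_id]
      show _ = _ • z
      congr 1
      exact (TopCat.Presheaf.germ_res_apply (PS).presheaf _ x hx _).symm
    | succ e =>
      exact ⟨0, fun i x hx z => by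
        rw [DevLib.stalkLin_zero, LinearMap.zero_apply, homogeneousComponent_eq_zero (h := by simp), map_zero,
          germ_zero_smul]⟩
  | add p q hp hq =>
    obtain ⟨G, hG⟩ := hp e
    obtain ⟨G', hG'⟩ := hq e
    exact ⟨G + G', fun i x hx z => by
      rw [DevLib.stalkLin_add, LinearMap.add_apply, hG i x hx, hG' i x hx, map_add, map_add, map_add, add_smul]⟩
  | mul_X p v hp =>
    cases e with
    | zero =>
      exact ⟨0, fun i x hx z => by
        rw [DevLib.stalkLin_zero, LinearMap.zero_apply, hc_mul_low (isHomogeneous_X k v) Nat.one_pos, map_zero,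
          germ_zero_smul]⟩
    | succ e =>
      obtain ⟨G, hG⟩ := hp e
      refine ⟨G ≫ lmap (c v) W (t + e), fun i x hx z => ?_⟩
      rw [stalkLin_comp, LinearMap.comp_apply, hG i x hx, map_smul]
      refine (congrArg (_ • ·) (stalkLin_lmap W (c v) (t + e) hx _)).trans ?_
      rw [smul_smul, bpow, stalkLin_comp, LinearMap.comp_apply, hc_mul (isHomogeneous_X k v), map_mul, map_mul, formRatio,
        eval₂Hom_X']
      rfl

variable {W}

theorem mulMap_natural {V : (PS).Modules} (g : W ⟶ V) {a b c : ℤ} (h : a + b = c) :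
    twMap b (twMap a g) ≫ mulMap V h = mulMap W h ≫ twMap c g := by
  refine hom_ext_stalk fun x => LinearMap.ext fun z => ?_
  obtain ⟨w, rfl⟩ := (stalkTensor x (CohB1.tensorMod W (O(a))) (O(b))).surjective z
  rw [stalkLin_comp, stalkLin_comp, LinearMap.comp_apply, LinearMap.comp_apply]
  induction w using TensorProduct.induction_on with
  | zero => rw [map_zero, map_zero, map_zero, map_zero, map_zero]
  | add p q hp hq =>
    exact (by rw [map_add, map_add, map_add, map_add, map_add]; exact congrArg₂ (· + ·) hp hq)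
  | tmul u t =>
    obtain ⟨w', rfl⟩ := (stalkTensor x W (O(a))).surjective u
    induction w' using TensorProduct.induction_on with
    | zero => rw [map_zero, TensorProduct.zero_tmul, map_zero, map_zero, map_zero, map_zero, map_zero]
    | add p q hp hq =>
      rw [map_add, TensorProduct.add_tmul, map_add, map_add, map_add, map_add, map_add]
      exact congrArg₂ (· + ·) hp hq
    | tmul f u =>
      refine (congrArg (stalkLin (mulMap V h) x) ((stalkTensor_natural_left x (twMap a g) _).trans
        (congrArg (stalkTensor x _ _) ((LinearMap.rTensor_tmul _ _ _ _).trans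
          (congrArg (· ⊗ₜ t) (stalkTensor_natural_left x g (f ⊗ₜ u))))))).trans ?_
      rw [LinearMap.rTensor_tmul]
      refine (mulMap_germ h x _ u t).trans (Eq.trans ?_ (congrArg (stalkLin (twMap c g) x) (mulMap_germ h x f u t)).symm)
      refine Eq.trans ?_ (stalkTensor_natural_left (N := O(c)) x g _).symm
      exact congrArg _ (LinearMap.rTensor_tmul _ _ _ _).symm

theorem stepAux_natural {V : (PS).Modules} (g : W ⟶ V) {a b c : ℤ} (h : a + b = c)
    (f : CohB1.tensorMod W (O(a)) ⟶ W) (f' : CohB1.tensorMod V (O(a)) ⟶ V) (hf : f ≫ g = twMap a g ≫ f') :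
    stepAux W a b c h f ≫ twMap b g = twMap c g ≫ stepAux V a b c h f' := by
  haveI := isIso_mulMap W h
  haveI := isIso_mulMap V h
  have hn : CategoryTheory.inv (mulMap W h) ≫ twMap b (twMap a g) = twMap c g ≫ CategoryTheory.inv (mulMap V h) := by
    rw [IsIso.eq_comp_inv, Category.assoc, mulMap_natural g h, IsIso.inv_hom_id_assoc]
  unfold stepAux shiftAux
  rw [← Category.assoc (twMap c g), ← hn, Category.assoc, Category.assoc]
  refine congrArg (CategoryTheory.inv (mulMap W h) ≫ ·) ?_
  unfold twMap
  rw [← Functor.map_comp, ← Functor.map_comp, hf]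
  rfl

theorem stepOf_natural {V : (PS).Modules} (g : W ⟶ V) (f : CohB1.tensorMod W (O(-1)) ⟶ W)
    (f' : CohB1.tensorMod V (O(-1)) ⟶ V) (h : f ≫ g = (CurveLib.tensR (O(-1))).map g ≫ f') (t : ℕ) :
    stepOf W f t ≫ twMap ((t + 1 : ℕ) : ℤ) g = twMap (t : ℤ) g ≫ stepOf V f' t :=
  stepAux_natural g (shift_eq t) f f' h

theorem lmap_natural {V : (PS).Modules} (g : W ⟶ V) (a : Fin (n + 1) → k) (t : ℕ) :
    lmap a W t ≫ twMap ((t + 1 : ℕ) : ℤ) g =
      twMap (t : ℤ) g ≫ lmap a V t :=
  stepOf_natural g _ _ (linMap_natural a g).symm t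

/-- Maps on all twisted sections. -/
def totMap {V : (PS).Modules} (g : W ⟶ V) : Tot W →ₗ[k] Tot V :=
  LinearMap.pi fun t => (topLin (twMap (t : ℤ) g)).comp (LinearMap.proj t)

theorem totMap_act {V : (PS).Modules} (g : W ⟶ V) (p : MvPolynomial (Fin (d + 1)) k) (z : Tot W) :
    totMap g (act W c p z) = act V c p (totMap g z) := by
  induction p using MvPolynomial.induction_on generalizing z with
  | C r =>
    funext t
    rw [act_C]
    show topLin (twMap (t : ℤ) g) (act W c (MvPolynomial.C r) z t) = r • topLin (twMap (t : ℤ) g) (z t)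
    rw [act_C, map_smul]
  | add p q hp hq => rw [map_add, map_add, LinearMap.add_apply, map_add, hp, hq, LinearMap.add_apply]
  | mul_X p v hp =>
    rw [map_mul, map_mul, act_X, act_X]
    show totMap g (act W c p (shiftL W c v z)) = act V c p (shiftL V c v (totMap g z))
    rw [hp]
    congr 1
    funext t
    cases t with
    | zero => exact map_zero (topLin (twMap ((0 : ℕ) : ℤ) g))
    | succ s => exact congr($(congrArg (fun f => topLin f) (lmap_natural g (c v) s)) (z s))

end Groth.Agent.GrothBddLib
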