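import Groth.Agent.GrothBddLib.Bridge
import Groth.Agent.HilbStratLib.ProjFibre

/-!
# Grothendieck's lemma: finitely many Hilbert polynomials of pure quotients
-/

set_option autoImplicit false
set_option backward.isDefEq.respectTransparency false
set_option linter.style.haveILetI false
set_option linter.unusedSectionVars false
set_option maxHeartbeats 800000

universe u

open CategoryTheory CategoryTheory.Limits AlgebraicGeometry Filter Polynomial
open Groth.Agent.CMRegLib Groth.Agent.DCohLib Groth.Agent.PullbackMod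

noncomputable section

namespace Groth.Agent.GrothBddLib

variable {k : Type u} [Field k] {n : ℕ}

local notation "PS" => CohB1.ProjSpace n k
local notation "O(" d ")" => Twist.twistProjSpace n k d

local instance : IsProper (PS ↘ Spec (CommRingCat.of k)) := CompleteCurve.isProper_toSpec n k

theorem isZero_of_stalks {X : Scheme.{u}} {G : X.Modules} (h : ∀ x, Subsingleton (G.presheaf.stalk x)) : IsZero G :=
  (IsZero.iff_id_eq_zero _).2 (hom_ext_stalk fun x => LinearMap.ext fun _ =>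
    haveI := h x
    Subsingleton.elim _ _)

theorem eq_zero_of_isZero {X : Scheme.{u}} {G : X.Modules} (h : IsZero G) (x : X) (z : G.presheaf.stalk x) : z = 0 := by
  have e : stalkLin (𝟙 G) x z = z := by rw [stalkLin_id, LinearMap.id_apply]
  rw [← e, h.eq_of_src (𝟙 G) 0, DevLib.stalkLin_zero, LinearMap.zero_apply]

theorem isPure_twist {F : (PS).Modules} {d : ℕ} (h : ShStab.IsPure PS F d) (r : ℤ) :
    ShStab.IsPure PS (CohB1.tensorMod F (O(r))) d := by
  intro G κ hκ hG hG0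
  haveI := hκ
  haveI : IsIso (mulMap F (show r + -r = 0 by ring)) := isIso_mulMap F _
  haveI : Mono (twMap (-r) κ) := (shortExact_twSeq (shortExact_coker κ) (-r)).mono_f
  let ι : CohB1.tensorMod G (O(-r)) ⟶ F :=
    twMap (-r) κ ≫ mulMap F (show r + -r = 0 by ring) ≫ (zeroTwistIso F).hom
  have hs : CohB1.support (CohB1.tensorMod G (O(-r))) = CohB1.support G :=
    HilbLib.support_tensor (isInvertible_O (-r)) G
  rw [← hs]
  refine h _ ι inferInstance (isCoh_twistBy hG (-r)) fun hz => hG0 (isZero_of_stalks fun x => ?_)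
  by_contra hx
  have : x ∈ CohB1.support (CohB1.tensorMod G (O(-r))) := hs.ge hx
  exact this ⟨fun a b => (eq_zero_of_isZero hz x a).trans (eq_zero_of_isZero hz x b).symm⟩

theorem regForm_zero {e : ℕ} (c : Fin (e + 2) → Fin (n + 1) → k) {W : (PS).Modules} (hW : Coh.IsCoh W)
    (hpure : ShStab.IsPure PS W (e + 1)) {m : ℕ} (f : Fin m → Γ(obj W 0, ⊤)) {Q : ℚ[X]} (hQd : Q.natDegree ≤ e + 1)
    (hQ : ∀ j : ℤ, (Curv2.euler k PS (CohB1.tensorMod W (O(j))) : ℚ) = Q.eval (j : ℚ))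
    (hs : ∀ᶠ t : ℕ in atTop,
      (piece k (Fin (e + 2)) m t).map ((LinearMap.proj t).comp (psi c W f)) = ⊤)
    (g : MvPolynomial (Fin (e + 2)) k) (a : ℕ) (hga : g.IsHomogeneous a) (hg : g ≠ 0) : RegForm c W g 0 := by
  haveI := isNoetherian_projSpace (k := k) (n := n)
  obtain ⟨G, hG⟩ := exists_formMap W c g 0 a
  have hGg : ∀ (i : Fin (n + 1)) (x : PS) (hx : x ∈ AmpleEmb.stdOpen n k i) (z : (obj W 0).presheaf.stalk x),
      stalkLin G x z = stalkLin (bpow W i 0 a) x ((PS).presheaf.germ _ x hx (formRatio c i g) • z) := fun i x hx z => by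
    rw [hG i x hx z, MvPolynomial.homogeneousComponent_eq_self hga, map_smul]
  by_cases hK : IsZero (kernel G)
  · intro i x hx z hz
    have h0 : stalkLin G x z = 0 := by rw [hGg i x hx, hz, map_zero]
    haveI : Mono G := Preadditive.mono_of_kernel_zero (hK.eq_zero_of_src _)
    exact (mono_iff_stalk G).1 inferInstance x (h0.trans (map_zero _).symm)
  · exfalso
    let z₀ : obj W 0 ≅ W := zeroTwistIso W
    have hKc : Coh.IsCoh (kernel G) :=
      (QCohLib.isCoh_kernel_cokernel G (isCoh_twistBy hW _) (isCoh_twistBy hW _)).1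
    let ι : kernel G ⟶ W := kernel.ι G ≫ z₀.hom
    have hdim := hpure (kernel G) ι inferInstance hKc hK
    obtain ⟨R, hR, hRe⟩ := HilbLib.exists_poly k (AmpleEmb.isAmple_twistOne n k).1 (e + 2) (kernel G) hKc
      (by rw [hdim]; exact_mod_cast Nat.lt_succ_self (e + 1))
    have hRtop : 0 < R.coeff (e + 1) := HilbLib.coeff_pos (k := k) (AmpleEmb.isAmple_twistOne n k) (e + 1) (kernel G) hKc
      (by rw [hdim]; exact_mod_cast Nat.lt_succ_self (e + 1)) R hR hRe
      ((HilbLib.not_dim_lt_iff (DevLib.isClosed_support hKc) _).1 (by rw [hdim]; exact lt_irrefl _))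
    obtain ⟨R', hR'⟩ := HilbStratLib.exists_euler_poly hKc
    obtain rfl : R' = R := HilbLib.poly_eq_of_nat fun j => by rw [← hRe, chi_twist_eq, hR', Int.cast_natCast]
    have hι : ∀ (i : Fin (n + 1)) (x : PS) (hx : x ∈ AmpleEmb.stdOpen n k i) (z : (kernel G).presheaf.stalk x),
        (PS).presheaf.germ _ x hx (formRatio c i g) • stalkLin ι x z = 0 := by
      intro i x hx z
      show _ • stalkLin (kernel.ι G ≫ z₀.hom) x z = 0
      rw [stalkLin_comp, LinearMap.comp_apply, ← map_smul]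
      refine (congrArg (stalkLin z₀.hom x) ((bijective_bpow W 0 hx a).1 ?_)).trans (map_zero _)
      rw [map_zero, ← hGg i x hx, ← LinearMap.comp_apply, ← stalkLin_comp, kernel.condition, DevLib.stalkLin_zero,
        LinearMap.zero_apply]
    set H := preHilbertPoly ℚ (e + 1) 0 with hH
    have hHd : H.natDegree = e + 1 := natDegree_preHilbertPoly ℚ (e + 1) 0
    set Z := Q - Q.comp (Polynomial.X + C (a : ℚ)) + C (m : ℚ) * H.comp (Polynomial.X + C (a : ℚ)) -
      C (m : ℚ) * H - R' with hZ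
    obtain ⟨q1, q2, -⟩ := comp_shift_coeff hQd (a : ℚ)
    obtain ⟨h1, h2, -⟩ := comp_shift_coeff hHd.le (a : ℚ)
    have hRd : R'.natDegree ≤ e + 1 := natDegree_le_iff_coeff_eq_zero.2 fun j hj =>
      (degree_lt_iff_coeff_zero R' (e + 2)).1 hR j hj
    have hZd : Z.natDegree ≤ e + 1 := natDegree_le_iff_coeff_eq_zero.2 fun j hj => by
      rw [hZ, coeff_sub, coeff_sub, coeff_add, coeff_sub, coeff_C_mul, coeff_C_mul,
        coeff_eq_zero_of_natDegree_lt (lt_of_le_of_lt hQd hj), coeff_eq_zero_of_natDegree_lt (lt_of_le_of_lt q1 hj),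
        coeff_eq_zero_of_natDegree_lt (lt_of_le_of_lt h1 hj), coeff_eq_zero_of_natDegree_lt (lt_of_le_of_lt hHd.le hj),
        coeff_eq_zero_of_natDegree_lt (lt_of_le_of_lt hRd hj)]
      ring
    have hnn := coeff_nonneg_of_eventually hZd (by
      filter_upwards [eventually_finrank hKc hR', eventually_finrank hW hQ,
        (tendsto_atTop_atTop.2 fun N => ⟨N, fun t ht => by omega⟩ : Tendsto (fun t : ℕ => t + a) atTop atTop).eventually
          ((eventually_finrank hW hQ).and hs)] with t hKt hWt hWa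
      have h := finrank_killed_le c f hW hga hg ι hι t hWa.2
      have e1 : (Z.eval (t : ℚ)) = Q.eval (t : ℚ) - Q.eval (((t + a : ℕ) : ℚ)) +
          (m : ℚ) * H.eval (((t + a : ℕ) : ℚ)) - m * H.eval (t : ℚ) - R'.eval (t : ℚ) := by
        simp [hZ]
      rw [e1, ← hKt, ← hWt, ← hWa.1, hH, ← card_sym_eval, ← card_sym_eval]
      have h' : (Module.finrank k Γ(obj (kernel G) t, ⊤) : ℚ) + Module.finrank k Γ(obj W (t + a), ⊤) +
          m * Fintype.card (Sym (Fin (e + 2)) t) ≤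
        Module.finrank k Γ(obj W t, ⊤) + m * Fintype.card (Sym (Fin (e + 2)) (t + a)) := by exact_mod_cast h
      linarith)
    rw [hZ, coeff_sub, coeff_sub, coeff_add, coeff_sub, coeff_C_mul, coeff_C_mul, q2, h2] at hnn
    linarith

/-- The case of a module regular in degree zero. -/
theorem mem_hilbPolys [Infinite k] {e : ℕ} {P : ℚ[X]} (hPd : P.natDegree ≤ e + 1) {E F : (PS).Modules}
    (hE : Coh.IsCoh E) (hreg : Curv2.IsMRegular k n E 0)
    (hP : ∀ j : ℤ, (Curv2.euler k PS (CohB1.tensorMod E (O(j))) : ℚ) = P.eval (j : ℚ))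
    (hF : Coh.IsCoh F) (q : E ⟶ F) [Epi q] (hpure : ShStab.IsPure PS F (e + 1))
    {Q : ℚ[X]} (hQ : ∀ j : ℤ, (Curv2.euler k PS (CohB1.tensorMod F (O(j))) : ℚ) = Q.eval (j : ℚ)) :
    ∃ N : Submodule (MvPolynomial (Fin (e + 2)) k) (Fin ⌊P.eval 0⌋₊ → MvPolynomial (Fin (e + 2)) k),
      IsGraded N ∧ IsSat N ∧ Q.natDegree ≤ e + 1 ∧
      ∀ᶠ t : ℕ in atTop, (Module.finrank k (qPiece N t) : ℚ) = Q.eval (t : ℚ) := by
  haveI := isNoetherian_projSpace (k := k) (n := n)
  have hQd := (slope_ge (k := k) (n := n) 0 e E F q inferInstance hE hF hreg P Q hPd hP hQ).1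
  obtain ⟨c, hc⟩ := exists_gen (e + 2) E hE hreg P
    (lt_of_le_of_lt degree_le_natDegree (by exact_mod_cast Nat.lt_succ_of_le hPd)) hP
  haveI := finite_sections (isCoh_twistBy hE ((0 : ℕ) : ℤ))
  have hm : Module.finrank k Γ(obj E 0, ⊤) = ⌊P.eval 0⌋₊ := by
    have h := finrank_sections (j := ((0 : ℕ) : ℤ)) (fun p hp => vanish_ge hE hreg hp (by push_cast; omega)) hP
    rw [Nat.cast_zero, Int.cast_zero] at h
    rw [← h]
    exact (Nat.floor_natCast _).symm
  let b : Module.Basis (Fin ⌊P.eval 0⌋₊) k Γ(obj E 0, ⊤) := Module.finBasisOfFinrankEq k _ hm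
  let f : Fin ⌊P.eval 0⌋₊ → Γ(obj F 0, ⊤) := fun i => topLin (twMap ((0 : ℕ) : ℤ) q) (b i)
  have hs := eventually_piece_surjective hE hF q c hc b
  refine ⟨kerSub c F f, isGraded_kerSub c F f,
    isSat_kerSub c f (fun g a hga hg => regForm_zero c hF hpure f hQd hQ hs g a hga hg), hQd, ?_⟩
  filter_upwards [hs, eventually_finrank hF hQ] with t h1 h2
  rw [finrank_qPiece_kerSub, h1, finrank_top, h2]

/-- Finitely many Hilbert polynomials of pure quotients with slope bounded above. -/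
theorem finite_pure_quotients (e : ℕ) (P : ℚ[X]) (ρ : ℤ) (δ : ℚ) :
    ∃ Φ : Set ℚ[X], Φ.Finite ∧ ∀ (k : Type u) [Field k] [Infinite k] (n : ℕ)
      (E F : (CohB1.ProjSpace n k).Modules) (q : E ⟶ F), Epi q → Coh.IsCoh E → Coh.IsCoh F →
      Curv2.IsMRegular k n E ρ → P.natDegree ≤ e + 1 →
      (∀ j : ℤ, (Curv2.euler k (CohB1.ProjSpace n k) (CohB1.tensorMod E (Twist.twistProjSpace n k j)) : ℚ) =
        P.eval (j : ℚ)) →
      ShStab.IsPure (CohB1.ProjSpace n k) F (e + 1) →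
      ∀ Q : ℚ[X],
      (∀ j : ℤ, (Curv2.euler k (CohB1.ProjSpace n k) (CohB1.tensorMod F (Twist.twistProjSpace n k j)) : ℚ) =
        Q.eval (j : ℚ)) → Q.coeff e ≤ δ → Q ∈ Φ := by
  classical
  let P' := P.comp (Polynomial.X + C (ρ : ℚ))
  let δ' := δ + ((e : ℚ) + 1) * |(ρ : ℚ)| * P.coeff (e + 1)
  refine ⟨(fun Ψ : ℚ[X] => Ψ.comp (Polynomial.X + C (-(ρ : ℚ)))) '' {Ψ | ∃ (K : Type u) (_ : Field K)
      (N : Submodule (MvPolynomial (Fin (e + 2)) K) (Fin ⌊P'.eval 0⌋₊ → MvPolynomial (Fin (e + 2)) K)),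
      IsGraded N ∧ IsSat N ∧ Ψ.natDegree ≤ e + 1 ∧ Ψ.coeff e ≤ δ' ∧
      ∀ᶠ t : ℕ in atTop, (Module.finrank K (qPiece N t) : ℚ) = Ψ.eval (t : ℚ)},
    (finite_hilbPolys e _ δ').image _, ?_⟩
  intro k _ _ n E F q hq hE hF hreg hPd hP hpure Q hQ hδ
  haveI := hq
  haveI := isNoetherian_projSpace (k := k) (n := n)
  haveI : IsProper (CohB1.ProjSpace n k ↘ Spec (CommRingCat.of k)) := CompleteCurve.isProper_toSpec n k
  obtain ⟨hQd, hQ1, -⟩ := slope_ge (k := k) (n := n) ρ e E F q hq hE hF hreg P Q hPd hP hQ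
  let Q' := Q.comp (Polynomial.X + C (ρ : ℚ))
  refine ⟨Q', ?_, by simp [Q', Polynomial.comp_assoc]⟩
  have htw : ∀ (M : (CohB1.ProjSpace n k).Modules) (R : ℚ[X]),
      (∀ j : ℤ, (Curv2.euler k (CohB1.ProjSpace n k) (CohB1.tensorMod M (Twist.twistProjSpace n k j)) : ℚ) =
        R.eval (j : ℚ)) → ∀ j : ℤ, (Curv2.euler k (CohB1.ProjSpace n k)
          (CohB1.tensorMod (CohB1.tensorMod M (Twist.twistProjSpace n k ρ)) (Twist.twistProjSpace n k j)) : ℚ) =
        (R.comp (Polynomial.X + C (ρ : ℚ))).eval (j : ℚ) := fun M R hR j => by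
    rw [euler_untwist M (show ρ + j = ρ + j from rfl), hR, eval_comp, eval_add, eval_X, eval_C, Int.cast_add,
      add_comm]
  haveI : Epi (twMap ρ q) := (shortExact_twSeq (shortExact_ker q) ρ).epi_g
  obtain ⟨N, h1, h2, h3, h4⟩ := mem_hilbPolys (P := P') (E := CohB1.tensorMod E (Twist.twistProjSpace n k ρ))
    (F := CohB1.tensorMod F (Twist.twistProjSpace n k ρ)) (Q := Q') (comp_shift_coeff hPd _).1 (isCoh_twistBy hE ρ)
    (fun i hi hin => HT.twist (show ρ + (0 - (i : ℤ)) = ρ - (i : ℤ) by ring) (hreg i hi hin))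
    (htw E P hP) (isCoh_twistBy hF ρ) (twMap ρ q) (isPure_twist hpure ρ) (htw F Q hQ)
  refine ⟨k, inferInstance, N, h1, h2, h3, ?_, h4⟩
  obtain ⟨-, -, hsub⟩ := comp_shift_coeff hQd (ρ : ℚ)
  rw [hsub]
  have hKc : Coh.IsCoh (kernel q) := (QCohLib.isCoh_kernel_cokernel q hE hF).1
  have hle : Q.coeff (e + 1) ≤ P.coeff (e + 1) := by
    obtain ⟨R, hR, hRe⟩ := HilbLib.exists_poly k (AmpleEmb.isAmple_twistOne n k).1 (e + 2) (kernel q) hKc
      ((dim_mono (support_of_seq (shortExact_ker q)).1).trans_lt (dim_le hE hPd hP))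
    have h0 := HilbLib.coeff_nonneg k (AmpleEmb.isAmple_twistOne n k) hKc hR hRe
    have heq : P = R + Q := HilbLib.poly_eq_of_nat fun j => by
      rw [eval_add, ← hRe, chi_twist_eq, ← Int.cast_natCast j, ← hQ, ← hP,
        euler_tw (kernel.ι q) q (kernel.condition q) (shortExact_ker q) hKc hE hF (j : ℤ)]
      push_cast
      ring
    rw [heq, coeff_add]
    linarith
  calc Q.coeff e + ((e : ℚ) + 1) * Q.coeff (e + 1) * (ρ : ℚ) ≤ δ + ((e : ℚ) + 1) * Q.coeff (e + 1) * |(ρ : ℚ)| := by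
        gcongr
        exact le_abs_self _
    _ ≤ δ' := by
        have : ((e : ℚ) + 1) * Q.coeff (e + 1) * |(ρ : ℚ)| ≤ ((e : ℚ) + 1) * P.coeff (e + 1) * |(ρ : ℚ)| := by gcongr
        simp only [δ']
        linarith

end Groth.Agent.GrothBddLib
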