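import Groth.Agent.GrothBddLib.Openness

/-!
# Constant families of polarised schemes
-/

set_option autoImplicit false
set_option backward.isDefEq.respectTransparency false
set_option linter.style.haveILetI false
set_option linter.unusedSectionVars false

universe u

open CategoryTheory CategoryTheory.Limits AlgebraicGeometry Polynomial

noncomputable section

namespace Groth.Agent.GrothBddLib

/-- The pullback of a projective embedding over a field is relatively very ample. -/
theorem isRelVeryAmplePn_product (k : Type u) [Field k] (X : Scheme.{u}) [X.Over (Spec (CommRingCat.of k))]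
    (N : ℕ) (ι : X ⟶ CohB1.ProjSpace N k) [IsClosedImmersion ι]
    (hι : ι ≫ CohB1.ProjSpace.toSpec N k = X ↘ Spec (CommRingCat.of k))
    (S : Scheme.{u}) (q : S ⟶ Spec (CommRingCat.of k)) :
    RelAmple.IsRelVeryAmplePn (pullback.snd (X ↘ Spec (CommRingCat.of k)) q)
      ((Scheme.Modules.pullback (pullback.fst (X ↘ Spec (CommRingCat.of k)) q)).obj
        ((Scheme.Modules.pullback ι).obj (Twist.twistProjSpace N k 1))) := by
  let Sp := Spec (CommRingCat.of k)
  letI : Algebra (ULift.{u} ℤ) k :=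
    ((Int.castRingHom k).comp (ULift.ringEquiv : ULift.{u} ℤ ≃+* ℤ).toRingHom).toAlgebra
  obtain ⟨g, hg', ⟨τ⟩⟩ := S4471.exists_bc N (ULift.{u} ℤ) k 1
  let ε : CohB1.ProjSpace N k ⟶ CohB1.ProjSpaceOver N Sp := ProjMap.liftOver g (CohB1.ProjSpace.toSpec N k)
  have hεs : ε ≫ CohB1.ProjSpaceOver.toBase N Sp = CohB1.ProjSpace.toSpec N k := ProjMap.liftOver_toBase _ _
  have hεg : ε ≫ pullback.fst _ _ = g := ProjMap.liftOver_toInt _ _
  have hε : IsPullback ε (CohB1.ProjSpace.toSpec N k) (CohB1.ProjSpaceOver.toBase N Sp) (𝟙 Sp) := by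
    refine IsPullback.of_right ?_ (by rw [Category.comp_id]; exact hεs) (IsPullback.of_hasPullback _ _)
    rw [hεg, show 𝟙 Sp ≫ specULiftZIsTerminal.from Sp = Spec.map (CommRingCat.ofHom (algebraMap (ULift.{u} ℤ) k)) from
        specULiftZIsTerminal.hom_ext _ _]
    exact hg'
  haveI : IsIso ε := hε.isIso_fst_of_isIso
  let e₁ : (Scheme.Modules.pullback ε).obj (Twist.twistOver N Sp 1) ≅ Twist.twistProjSpace N k 1 :=
    (Scheme.Modules.pullbackComp ε (pullback.fst _ _)).app _ ≪≫ (Scheme.Modules.pullbackCongr hεg).app _ ≪≫ τ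
  let f := pullback.snd (X ↘ Sp) q
  let p := pullback.fst (X ↘ Sp) q
  let i : pullback (X ↘ Sp) q ⟶ CohB1.ProjSpaceOver N S :=
    (FlatStrat.isPullback_projMap q).lift (p ≫ ι ≫ ε) f (by
      rw [Category.assoc, Category.assoc, hεs, hι]; exact pullback.condition)
  have hi : i ≫ CohB1.ProjSpaceOver.toBase N S = f := IsPullback.lift_snd _ _ _ _
  have hi' : i ≫ FGA.projMap N q = p ≫ ι ≫ ε := IsPullback.lift_fst _ _ _ _
  have hsq : IsPullback p i (ι ≫ ε) (FGA.projMap N q) := by
    refine IsPullback.of_bot ?_ hi'.symm (FlatStrat.isPullback_projMap q)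
    rw [hi, Category.assoc, hεs, hι]
    exact IsPullback.of_hasPullback _ _
  haveI : IsClosedImmersion i := MorphismProperty.of_isPullback (P := @IsClosedImmersion) hsq inferInstance
  refine ⟨N, i, inferInstance, hi, ⟨?_⟩⟩
  exact (Scheme.Modules.pullback p).mapIso ((Scheme.Modules.pullback ι).mapIso e₁.symm ≪≫
      (Scheme.Modules.pullbackComp ι ε).app _) ≪≫ (Scheme.Modules.pullbackComp p (ι ≫ ε)).app _ ≪≫
    (Scheme.Modules.pullbackCongr hi'.symm).app _ ≪≫ ((Scheme.Modules.pullbackComp i (FGA.projMap N q)).app _).symm ≪≫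
    (Scheme.Modules.pullback i).mapIso (FlatStrat.pullTwist q 1)

theorem isNoetherian_of_ft (k : Type u) [Field k] (S : Scheme.{u}) (q : S ⟶ Spec (CommRingCat.of k))
    [LocallyOfFiniteType q] [CompactSpace S] : IsNoetherian S :=
  haveI := LocallyOfFiniteType.isLocallyNoetherian q
  AlgebraicGeometry.IsNoetherian.mk

end Groth.Agent.GrothBddLib
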