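import Groth.Agent.GrothBddLib.HilbImage
import Groth.Agent.S0389
import Mathlib.RingTheory.Spectrum.Prime.FreeLocus
import Mathlib.LinearAlgebra.TensorProduct.RightExactness
import Mathlib.LinearAlgebra.TensorProduct.Pi

/-!
# Finitely many rank functions for matrices of forms of fixed degree
-/

set_option autoImplicit false
set_option linter.unusedSectionVars false
set_option maxHeartbeats 1600000

universe u

open MvPolynomial
open scoped TensorProduct

noncomputable section

namespace Groth.Agent.GrothBddLib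

variable {B : Type u} [CommRing B]

/-- The rank at a point is the number of rows minus the dimension of the cokernel. -/
theorem rank_map_add {ι κ : Type} [Fintype ι] [Fintype κ] [DecidableEq ι] [DecidableEq κ] (L : Matrix ι κ B)
    (K : Type u) [Field K] [Algebra B K] :
    (L.map (algebraMap B K)).rank + Module.finrank K (K ⊗[B] ((ι → B) ⧸ LinearMap.range L.mulVecLin)) =
      Fintype.card ι := by
  set p := (LinearMap.range L.mulVecLin).mkQ
  have hex : Function.Exact (L.mulVecLin.baseChange K) (p.baseChange K) :=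
    lTensor_exact K (LinearMap.exact_map_mkQ_range L.mulVecLin) (Submodule.mkQ_surjective _)
  have hp : Function.Surjective (p.baseChange K) := LinearMap.lTensor_surjective K (Submodule.mkQ_surjective _)
  have h1 := (p.baseChange K).finrank_range_add_finrank_ker
  rw [LinearMap.range_eq_top.2 hp, finrank_top, LinearMap.exact_iff.1 hex] at h1
  let e₁ := TensorProduct.piScalarRight B K K κ
  let e₂ := TensorProduct.piScalarRight B K K ι
  have hc : e₂.toLinearMap ∘ₗ L.mulVecLin.baseChange K = (L.map (algebraMap B K)).mulVecLin ∘ₗ e₁.toLinearMap := by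
    refine TensorProduct.AlgebraTensorModule.curry_injective (LinearMap.ext fun a => LinearMap.ext fun v => ?_)
    funext i
    simp only [TensorProduct.AlgebraTensorModule.curry_apply, TensorProduct.curry_apply, LinearMap.coe_restrictScalars,
      LinearMap.comp_apply, LinearMap.baseChange_tmul, LinearEquiv.coe_coe, TensorProduct.piScalarRight_apply,
      e₁, e₂, TensorProduct.piScalarRightHom_tmul, Matrix.mulVecLin_apply, Matrix.mulVec, dotProduct, Matrix.map_apply,
      Finset.sum_smul, Algebra.smul_def, map_sum, map_mul, Finset.sum_mul, mul_assoc]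
  have h2 : Module.finrank K (LinearMap.range (L.mulVecLin.baseChange K)) = (L.map (algebraMap B K)).rank := by
    rw [Matrix.rank, ← LinearMap.range_comp_of_range_eq_top (L.map (algebraMap B K)).mulVecLin e₁.range, ← hc,
      LinearMap.range_comp]
    exact (LinearEquiv.finrank_map_eq e₂ _).symm
  rw [h2, e₂.finrank_eq, Module.finrank_pi] at h1
  omega

variable {σ : Type} [Fintype σ] [DecidableEq σ] {m : ℕ}

theorem mulA_isHomogeneous_coords (A : Fin m → Fin m → MvPolynomial σ B) {D : ℕ}
    (hA : ∀ i j, (A i j).IsHomogeneous D) (t : ℕ) (x : Fin m → MvPolynomial σ B) :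
    coords (t + D) (mulA A x) = (degMat A D t).mulVec (coords t x) := by
  funext ⟨i, β⟩
  show coeff (expo β) (∑ j, A i j * x j) = ∑ ja, _ * _
  rw [coeff_sum, Fintype.sum_prod_type]
  refine Finset.sum_congr rfl fun j _ => ?_
  show _ = ∑ s : Sym σ t, coeff (expo β) (A i j * monomial (expo s) 1) * coeff (expo s) (x j)
  have hterm : ∀ (γ : σ →₀ ℕ), coeff (expo β) (A i j * monomial γ (coeff γ (x j))) =
      coeff (expo β) (A i j * monomial γ 1) * coeff γ (x j) := fun γ => by
    rw [mul_comm _ (coeff γ (x j)), ← coeff_C_mul]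
    congr 1
    rw [mul_left_comm, C_mul_monomial, mul_one]
  conv_lhs => rw [(x j).as_sum, Finset.mul_sum, coeff_sum]
  simp only [hterm]
  classical
  have hz : ∀ γ : σ →₀ ℕ, γ.degree ≠ t → coeff (expo β) (A i j * monomial γ 1) = 0 := fun γ hγ =>
    ((hA i j).mul (isHomogeneous_monomial (1 : B) (rfl : γ.degree = γ.degree))).coeff_eq_zero (by
      rw [degree_expo]; omega)
  rw [← Finset.sum_filter_of_ne (p := fun γ : σ →₀ ℕ => γ.degree = t) (fun γ _ h => by
    by_contra hγ
    exact h (by rw [hz γ hγ, zero_mul]))]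
  rw [← Finset.sum_image (f := fun γ : σ →₀ ℕ => coeff (expo β) (A i j * monomial γ 1) * coeff γ (x j))
    (g := fun s : Sym σ t => expo s) (fun s _ s' _ h => expo_injective h)]
  refine Finset.sum_subset (fun γ hγ => ?_) fun γ _ hγ => ?_
  · rw [Finset.mem_filter] at hγ
    obtain ⟨s, rfl⟩ := exists_expo hγ.2
    exact Finset.mem_image_of_mem _ (Finset.mem_univ s)
  · by_cases h : γ ∈ (x j).support
    · rw [Finset.mem_filter, not_and] at hγ
      rw [hz γ (hγ h), zero_mul]
    · rw [notMem_support_iff.1 h, mul_zero]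

/-- The graded pieces of the cokernel are direct summands. -/
theorem projective_coker [IsDomain B] (A : Fin m → Fin m → MvPolynomial σ B) {D : ℕ}
    (hA : ∀ i j, (A i j).IsHomogeneous D) (t : ℕ) {T : Type u} [CommRing T] [Algebra B T]
    (hfree : Module.Free T (T ⊗[B] ((Fin m → MvPolynomial σ B) ⧸ (LinearMap.range (mulA A))))) :
    Module.Projective T (T ⊗[B] ((Fin m × Sym σ (t + D) → B) ⧸ LinearMap.range (degMat A D t).mulVecLin)) := by
  let Q := (Fin m → MvPolynomial σ B) ⧸ (LinearMap.range (mulA A))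
  let i : ((Fin m × Sym σ (t + D) → B) ⧸ LinearMap.range (degMat A D t).mulVecLin) →ₗ[B] Q :=
    Submodule.liftQ _ (((LinearMap.range (mulA A)).mkQ.restrictScalars B).comp (ofCoords (t + D))) (by
      rintro _ ⟨v, rfl⟩
      rw [LinearMap.mem_ker, LinearMap.comp_apply, LinearMap.restrictScalars_apply, Submodule.mkQ_apply,
        Submodule.Quotient.mk_eq_zero]
      refine ⟨ofCoords t v, ?_⟩
      rw [Matrix.mulVecLin_apply, ← coords_mulA]
      refine (ofCoords_coords_of_homogeneous fun i => ?_).symm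
      show (∑ j, A i j * ofCoords t v j).IsHomogeneous (t + D)
      refine IsHomogeneous.sum _ _ _ fun j _ => ?_
      rw [add_comm t D]
      exact (hA i j).mul (IsHomogeneous.sum _ _ _ fun s _ => isHomogeneous_monomial _ (degree_expo s)))
  let π : Q →ₗ[B] ((Fin m × Sym σ (t + D) → B) ⧸ LinearMap.range (degMat A D t).mulVecLin) :=
    (Submodule.liftQ ((LinearMap.range (mulA A)).restrictScalars B)
      ((LinearMap.range (degMat A D t).mulVecLin).mkQ.comp (coords (t + D))) (by
      rintro _ ⟨x, rfl⟩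
      rw [LinearMap.mem_ker, LinearMap.comp_apply, Submodule.mkQ_apply, Submodule.Quotient.mk_eq_zero]
      exact ⟨coords t x, (mulA_isHomogeneous_coords A hA t x).symm⟩)).comp
      (Submodule.Quotient.restrictScalarsEquiv B (LinearMap.range (mulA A))).symm.toLinearMap
  have hid : π ∘ₗ i = LinearMap.id := by
    refine Submodule.linearMap_qext _ (LinearMap.ext fun v => ?_)
    show Submodule.Quotient.mk (coords (t + D) (ofCoords (t + D) v)) = Submodule.Quotient.mk v
    rw [coords_ofCoords]
  haveI := hfree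
  exact Module.Projective.of_split (i.baseChange T) (π.baseChange T) (by
    rw [← LinearMap.baseChange_comp, hid, LinearMap.baseChange_id])

theorem finite_rank_functions_aux {U : Type u} [CommRing U] [IsNoetherianRing U]
    (Au : Fin m → Fin m → MvPolynomial σ U) {D : ℕ} (hAu : ∀ i j, (Au i j).IsHomogeneous D) :
    ∃ S : Set (ℕ → ℕ), S.Finite ∧ ∀ (K : Type u) [Field K] (φ : U →+* K),
      (⊥ : Ideal U) ≤ RingHom.ker φ → (fun t => ((degMat Au D t).map φ).rank) ∈ S := by
  classical
  let P : Ideal U → Prop := fun I => ∃ S : Set (ℕ → ℕ), S.Finite ∧ ∀ (K : Type u) [Field K] (φ : U →+* K),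
    I ≤ RingHom.ker φ → (fun t => ((degMat Au D t).map φ).rank) ∈ S
  refine IsNoetherian.induction (P := P) (fun (I : Ideal U) ih => ?_) ⊥
  rcases eq_or_ne I ⊤ with rfl | hI
  · refine ⟨∅, Set.finite_empty, fun K _ φ h => absurd (h Submodule.mem_top : (1 : U) ∈ RingHom.ker φ) ?_⟩
    simp
  by_cases hp : I.IsPrime
  swap
  · obtain ⟨x, y, hxy, hx, hy⟩ : ∃ x y, x * y ∈ I ∧ x ∉ I ∧ y ∉ I := by
      rw [Ideal.isPrime_iff] at hp
      push Not at hp
      obtain ⟨x, y, h⟩ := hp hI
      exact ⟨x, y, h.1, h.2.1, h.2.2⟩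
    obtain ⟨S₁, hS₁, h₁⟩ := ih (I ⊔ Ideal.span {x})
      (lt_of_le_of_ne le_sup_left fun h => hx (h ▸ Submodule.mem_sup_right (Ideal.mem_span_singleton_self x)))
    obtain ⟨S₂, hS₂, h₂⟩ := ih (I ⊔ Ideal.span {y})
      (lt_of_le_of_ne le_sup_left fun h => hy (h ▸ Submodule.mem_sup_right (Ideal.mem_span_singleton_self y)))
    refine ⟨S₁ ∪ S₂, hS₁.union hS₂, fun K _ φ h => ?_⟩
    rcases mul_eq_zero.1 ((map_mul φ x y).symm.trans (RingHom.mem_ker.1 (h hxy))) with h0 | h0
    · exact Or.inl (h₁ K φ (sup_le h ((Ideal.span_singleton_le_iff_mem _).2 h0)))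
    · exact Or.inr (h₂ K φ (sup_le h ((Ideal.span_singleton_le_iff_mem _).2 h0)))
  haveI := hp
  let Abar : Fin m → Fin m → MvPolynomial σ (U ⧸ I) := fun i j => MvPolynomial.map (Ideal.Quotient.mk I) (Au i j)
  have hAbar : ∀ i j, (Abar i j).IsHomogeneous D := fun i j => (hAu i j).map _
  obtain ⟨f, hf, hfree, -⟩ := Groth.Agent.S0389.result (R := (U ⧸ I)) (S := MvPolynomial σ (U ⧸ I))
    (M := (Fin m → MvPolynomial σ (U ⧸ I)) ⧸ LinearMap.range (mulA Abar))
  obtain ⟨g, rfl⟩ := Ideal.Quotient.mk_surjective f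
  have hg : g ∉ I := fun h => hf (Ideal.Quotient.eq_zero_iff_mem.2 h)
  obtain ⟨S₁, hS₁, h₁⟩ := ih (I ⊔ Ideal.span {g})
    (lt_of_le_of_ne le_sup_left fun h => hg (h ▸ Submodule.mem_sup_right (Ideal.mem_span_singleton_self g)))
  let T := Localization.Away (Ideal.Quotient.mk I g)
  haveI : IsDomain T := IsLocalization.isDomain_localization (powers_le_nonZeroDivisors_of_noZeroDivisors hf)
  let C := fun t => T ⊗[(U ⧸ I)] ((Fin m × Sym σ (t + D) → (U ⧸ I)) ⧸ LinearMap.range (degMat Abar D t).mulVecLin)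
  haveI : ∀ t, Module.Projective T (C t) := fun t => projective_coker Abar hAbar t hfree
  haveI : ∀ t, Module.Finite T (C t) := fun t => inferInstance
  let fn : ℕ → ℕ := fun t => Fintype.card (Fin m × Sym σ (t + D)) - Module.rankAtStalk (R := T) (C t) (⟨(⊥ : Ideal T), Ideal.isPrime_bot⟩ : PrimeSpectrum T)
  refine ⟨insert fn S₁, hS₁.insert fn, fun K _ φ h => ?_⟩
  by_cases hφg : φ g = 0
  · exact Or.inr (h₁ K φ (sup_le h ((Ideal.span_singleton_le_iff_mem _).2 hφg)))
  refine Or.inl (funext fun t => ?_)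
  let ψ₀ : (U ⧸ I) →+* K := Ideal.Quotient.lift I φ fun a ha => h ha
  let ψ : T →+* K := IsLocalization.Away.lift (Ideal.Quotient.mk I g) (g := ψ₀)
    (isUnit_iff_ne_zero.2 (show ψ₀ (Ideal.Quotient.mk I g) ≠ 0 by simpa [ψ₀] using hφg))
  letI : Algebra (U ⧸ I) K := ψ₀.toAlgebra
  letI : Algebra T K := ψ.toAlgebra
  haveI : IsScalarTower (U ⧸ I) T K := IsScalarTower.of_algebraMap_eq' (IsLocalization.Away.lift_comp _ _).symm
  have hmap : (degMat Au D t).map φ = (degMat Abar D t).map (algebraMap (U ⧸ I) K) := by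
    rw [← degMat_map, Matrix.map_map]
    rfl
  have h1 := rank_map_add (degMat Abar D t) K
  rw [← (TensorProduct.AlgebraTensorModule.cancelBaseChange (U ⧸ I) T K K
    ((Fin m × Sym σ (t + D) → (U ⧸ I)) ⧸ LinearMap.range (degMat Abar D t).mulVecLin)).finrank_eq] at h1
  have h2 : Module.finrank K (K ⊗[T] C t) = Module.rankAtStalk (R := T) (C t) (⟨(⊥ : Ideal T), Ideal.isPrime_bot⟩ : PrimeSpectrum T) := by
    let p : PrimeSpectrum K := ⟨(⊥ : Ideal K), Ideal.isPrime_bot⟩
    rw [Module.rankAtStalk_eq_of_le_of_finite_of_flat (C t) (p := ⟨(⊥ : Ideal T), Ideal.isPrime_bot⟩) (q := p.comap (algebraMap T K)) (show (⊥ : Ideal T) ≤ _ from bot_le),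
      ← Module.rankAtStalk_baseChange, Module.rankAtStalk_eq_finrank_of_free]
    rfl
  show ((degMat Au D t).map φ).rank = fn t
  rw [hmap]
  simp only [fn, ← h2]
  exact Nat.eq_sub_of_add_eq h1


/-- Matrices of forms of one degree have finitely many rank functions, over all fields. -/
theorem finite_rank_functions (σ : Type) [Fintype σ] [DecidableEq σ] (m D : ℕ) :
    ∃ S : Set (ℕ → ℕ), S.Finite ∧ ∀ (K : Type u) [Field K] (A : Fin m → Fin m → MvPolynomial σ K),
      (∀ i j, (A i j).IsHomogeneous D) → (fun t => (degMat A D t).rank) ∈ S := by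
  classical
  let Idx := Fin m × Fin m × Sym σ D
  let U := MvPolynomial Idx (ULift.{u} ℤ)
  let Au : Fin m → Fin m → MvPolynomial σ U := fun i j => ∑ s : Sym σ D, monomial (expo s) (MvPolynomial.X (i, j, s))
  have hAu : ∀ i j, (Au i j).IsHomogeneous D := fun i j =>
    IsHomogeneous.sum _ _ _ fun s _ => isHomogeneous_monomial _ (degree_expo s)
  suffices h : ∃ S : Set (ℕ → ℕ), S.Finite ∧ ∀ (K : Type u) [Field K] (φ : U →+* K),
      (⊥ : Ideal U) ≤ RingHom.ker φ → (fun t => ((degMat Au D t).map φ).rank) ∈ S by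
    obtain ⟨S, hS, h⟩ := h
    refine ⟨S, hS, fun K _ A hA => ?_⟩
    let φ : U →+* K := MvPolynomial.eval₂Hom ((Int.castRingHom K).comp ULift.ringEquiv.toRingHom)
      fun a => coeff (expo a.2.2) (A a.1 a.2.1)
    have hφ : (fun i j => MvPolynomial.map φ (Au i j)) = A := by
      funext i j
      simp only [Au, map_sum, map_monomial, φ, MvPolynomial.coe_eval₂Hom, eval₂_X]
      exact (Finset.sum_congr rfl fun s _ => congrArg _ (MvPolynomial.eval₂Hom_X' _ _ _)).trans
        (congr_fun (ofCoords_coords_of_homogeneous (p := fun j => A i j) (fun j => hA i j)) j)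
    have := h K φ bot_le
    simp only [degMat_map, hφ] at this
    exact this
  haveI : IsNoetherianRing (ULift.{u} ℤ) := isNoetherianRing_of_ringEquiv ℤ ULift.ringEquiv.symm
  haveI : IsNoetherianRing U := inferInstanceAs (IsNoetherianRing (MvPolynomial Idx (ULift.{u} ℤ)))
  haveI : IsNoetherian U U := inferInstance
  exact finite_rank_functions_aux Au hAu

end Groth.Agent.GrothBddLib
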