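import Groth.Agent.CMRegLib.Bound
import Groth.Agent.CMRegLib.Bounded
import Groth.Agent.HilbLib.Positive
import Groth.Agent.ShStabLib.DimBound
import Groth.Agent.AmpleEmb.TwistOne

/-!
# Quotients of regular modules have slopes bounded below

General linear forms cut down to dimension one, where the first cohomology of a quotient vanishes.
-/

set_option autoImplicit false
set_option backward.isDefEq.respectTransparency false
set_option maxHeartbeats 1600000

universe u

open CategoryTheory CategoryTheory.Limits AlgebraicGeometry Polynomial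

noncomputable section

namespace Groth.Agent.GrothBddLib

open Groth.Agent.CMRegLib Groth.Agent.DevLib Groth.Agent.DCohLib Groth.Agent.QCohLib Groth.Agent.ParaFLib

theorem coeff_diff {Q : ℚ[X]} {m : ℕ} (h : Q.natDegree ≤ m + 2) :
    (Q - Q.comp (Polynomial.X - C 1)).natDegree ≤ m + 1 ∧
      (Q - Q.comp (Polynomial.X - C 1)).coeff (m + 1) = ((m : ℚ) + 2) * Q.coeff (m + 2) ∧
      (Q - Q.comp (Polynomial.X - C 1)).coeff m =
        ((m : ℚ) + 1) * Q.coeff (m + 1) - (((m + 2).choose 2 : ℕ) : ℚ) * Q.coeff (m + 2) := by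
  have hc : ∀ j, (Q.comp (Polynomial.X - C 1)).coeff j =
      ∑ i ∈ Finset.range (m + 3), (i.choose j : ℚ) * Q.coeff i * (-1) ^ (i - j) := fun j => by
    have e : Q.comp (Polynomial.X - C 1) = Polynomial.taylor (-1 : ℚ) Q := by
      rw [Polynomial.taylor_apply, map_neg, sub_eq_add_neg]
    rw [e, Polynomial.taylor_coeff, eval_eq_sum_range' (n := m + 3) (lt_of_le_of_lt
      (natDegree_hasseDeriv_le Q j) (by omega))]
    simp only [hasseDeriv_coeff]
    rcases le_or_gt j (m + 2) with hj | hj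
    · rw [← Finset.sum_range_add_sum_Ico (fun i => (i.choose j : ℚ) * Q.coeff i * (-1) ^ (i - j))
        (show j ≤ m + 3 by omega), Finset.sum_eq_zero (s := Finset.range j) (fun i hi => by
          rw [Nat.choose_eq_zero_of_lt (Finset.mem_range.1 hi)]; simp), zero_add,
        Finset.sum_Ico_eq_sum_range]
      refine (Finset.sum_subset (Finset.range_mono (show m + 3 - j ≤ m + 3 by omega)) fun i _ hi => ?_).symm.trans
        (Finset.sum_congr rfl fun i _ => ?_)
      · rw [coeff_eq_zero_of_natDegree_lt (by rw [Finset.mem_range] at hi; omega)]; simp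
      · rw [add_comm i j, Nat.add_sub_cancel_left]
    · rw [Finset.sum_eq_zero fun i _ => by rw [coeff_eq_zero_of_natDegree_lt (by omega)]; simp,
        Finset.sum_eq_zero fun i hi => by
          rw [Nat.choose_eq_zero_of_lt (by rw [Finset.mem_range] at hi; omega)]; simp]
  have hlow : ∀ j, ∀ i ∈ Finset.range j, (i.choose j : ℚ) * Q.coeff i * (-1) ^ (i - j) = 0 := fun j i hi => by
    rw [Nat.choose_eq_zero_of_lt (Finset.mem_range.1 hi)]; simp
  refine ⟨natDegree_le_iff_coeff_eq_zero.2 fun j hj => ?_, ?_, ?_⟩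
  · rw [coeff_sub, hc]
    rcases Nat.lt_or_ge (m + 2) j with h' | h'
    · rw [coeff_eq_zero_of_natDegree_lt (by omega : Q.natDegree < j), Finset.sum_eq_zero fun i hi => by
        rw [Nat.choose_eq_zero_of_lt (by rw [Finset.mem_range] at hi; omega)]; simp, sub_zero]
    · obtain rfl : j = m + 2 := by omega
      rw [Finset.sum_range_succ, Finset.sum_eq_zero (hlow _)]
      simp
  · rw [coeff_sub, hc, Finset.sum_range_succ, Finset.sum_range_succ, Finset.sum_eq_zero (hlow _)]
    simp only [show m + 2 - (m + 1) = 1 by omega, Nat.sub_self, Nat.choose_self, Nat.choose_succ_self_right]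
    push_cast
    ring
  · rw [coeff_sub, hc, Finset.sum_range_succ, Finset.sum_range_succ, Finset.sum_range_succ,
      Finset.sum_eq_zero (hlow _)]
    simp only [show m + 2 - m = 2 by omega, show m + 1 - m = 1 by omega, Nat.sub_self, Nat.choose_self,
      Nat.choose_succ_self_right]
    rw [Nat.choose_symm_of_eq_add (show m + 2 = m + 2 from rfl)]
    push_cast
    ring

variable {k : Type u} [Field k] {n : ℕ}

local notation "PS" => CohB1.ProjSpace n k
local notation "O(" d ")" => Twist.twistProjSpace n k d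

local instance : IsProper (PS ↘ Spec (CommRingCat.of k)) := CompleteCurve.isProper_toSpec n k

theorem le_of_lt_succ {a : WithBot ℕ∞} {d : ℕ} (h : a < ((d + 1 : ℕ) : WithBot ℕ∞)) : a ≤ (d : WithBot ℕ∞) := by
  induction a with
  | bot => exact bot_le
  | coe a =>
    have : a < ((d + 1 : ℕ) : ℕ∞) := by exact_mod_cast h
    have : a ≤ (d : ℕ∞) := by
      induction a with
      | top => simp at this
      | coe a => norm_cast at this ⊢; omega
    exact_mod_cast this

theorem chi_twist_eq (E : (PS).Modules) (m : ℕ) :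
    HilbLib.chi k (O(1)) E m = (Curv2.euler k PS (CohB1.tensorMod E (O((m : ℤ)))) : ℚ) :=
  congrArg (fun z : ℤ => (z : ℚ)) (CurveLib.euler_iso (K := k) (AmpleLib.tIso (Iso.refl E) (powTwistIso m)))

/-- The Hilbert polynomial bounds the dimension. -/
theorem dim_le {E : (PS).Modules} (hE : Coh.IsCoh E) {d : ℕ} {P : ℚ[X]} (hPd : P.natDegree ≤ d)
    (hP : ∀ m : ℤ, (Curv2.euler k PS (CohB1.tensorMod E (O(m))) : ℚ) = P.eval (m : ℚ)) :
    topologicalKrullDim (CohB1.support E) < ((d + 1 : ℕ) : WithBot ℕ∞) := by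
  haveI : IsProper (PS ↘ Spec (CommRingCat.of k)) := CompleteCurve.isProper_toSpec n k
  haveI := isNoetherian_projSpace (k := k) (n := n)
  obtain ⟨N, hN⟩ : ∃ N : ℕ, topologicalKrullDim PS < (N : WithBot ℕ∞) := ShStabLib.exists_dim_bound (k := k) (X := PS)
  have hsupp : ∀ j, N ≤ j → topologicalKrullDim (CohB1.support E) < (j : WithBot ℕ∞) := fun j hj =>
    lt_of_le_of_lt (Topology.IsEmbedding.subtypeVal).isInducing.topologicalKrullDim_le
      (lt_of_lt_of_le hN (by exact_mod_cast hj))
  suffices ∀ j, topologicalKrullDim (CohB1.support E) < ((d + 1 + j : ℕ) : WithBot ℕ∞) →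
      topologicalKrullDim (CohB1.support E) < ((d + 1 : ℕ) : WithBot ℕ∞) from this N (hsupp _ (by omega))
  intro j
  induction j with
  | zero => exact id
  | succ j ih =>
    intro hj
    refine ih ?_
    by_contra hch
    have h := HilbLib.coeff_pos (k := k) (AmpleEmb.isAmple_twistOne n k) (d + 1 + j) E hE hj P
      (lt_of_le_of_lt degree_le_natDegree (by exact_mod_cast (show P.natDegree < d + 1 + j + 1 by omega)))
      (fun m => by rw [chi_twist_eq, hP, Int.cast_natCast])
      ((HilbLib.not_dim_lt_iff (DevLib.isClosed_support hE) _).1 hch)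
    rw [coeff_eq_zero_of_natDegree_lt (by omega)] at h
    exact lt_irrefl _ h

theorem support_of_seq {S : ShortComplex (PS).Modules} (hS : S.ShortExact) :
    CohB1.support S.X₁ ⊆ CohB1.support S.X₂ ∧ CohB1.support S.X₃ ⊆ CohB1.support S.X₂ := by
  rw [support_X₂ hS]
  exact ⟨Set.subset_union_left, Set.subset_union_right⟩

theorem dim_mono {A B : Set PS} (h : A ⊆ B) : topologicalKrullDim A ≤ topologicalKrullDim B :=
  (Topology.IsEmbedding.inclusion h).isInducing.topologicalKrullDim_le

theorem regular_cokernel' {W : (PS).Modules} (hW : Coh.IsCoh W) {ρ : ℤ} (h : Curv2.IsMRegular k n W ρ)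
    (c : Fin (n + 1) → k) [Mono (linMap c W)] : Curv2.IsMRegular k n (cokernel (linMap c W)) ρ := fun i hi _ => by
  have hS := shortExact_coker (linMap c W)
  refine HT.right hS (vanish hW h hi) ?_
  exact HT.twist (show -1 + (ρ - (i : ℤ)) = -1 + (ρ - (i : ℤ)) from rfl)
    (vanish_ge hW h (by omega) (by push_cast; omega))

/-- The slope inequality, cross-multiplied. -/
theorem slope_ge [Infinite k] (ρ : ℤ) : ∀ (d : ℕ) (E F : (PS).Modules) (q : E ⟶ F), Epi q → Coh.IsCoh E → Coh.IsCoh F →
    Curv2.IsMRegular k n E ρ → ∀ (P Q : ℚ[X]), P.natDegree ≤ d + 1 →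
    (∀ m : ℤ, (Curv2.euler k PS (CohB1.tensorMod E (O(m))) : ℚ) = P.eval (m : ℚ)) →
    (∀ m : ℤ, (Curv2.euler k PS (CohB1.tensorMod F (O(m))) : ℚ) = Q.eval (m : ℚ)) →
    Q.natDegree ≤ d + 1 ∧ 0 ≤ Q.coeff (d + 1) ∧
      0 ≤ (d.factorial : ℚ) * Q.coeff d + ((ρ : ℚ) - 1 - (d : ℚ) / 2) * ((d + 1).factorial * Q.coeff (d + 1)) := by
  haveI : IsProper (PS ↘ Spec (CommRingCat.of k)) := CompleteCurve.isProper_toSpec n k
  haveI := isNoetherian_projSpace (k := k) (n := n)
  have hamp : CohB1.IsAmple (O(1)) := AmpleEmb.isAmple_twistOne n k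
  have hdeg : ∀ (d : ℕ) (E F : (PS).Modules) (q : E ⟶ F), Epi q → Coh.IsCoh E → Coh.IsCoh F →
      ∀ (P Q : ℚ[X]), P.natDegree ≤ d →
      (∀ m : ℤ, (Curv2.euler k PS (CohB1.tensorMod E (O(m))) : ℚ) = P.eval (m : ℚ)) →
      (∀ m : ℤ, (Curv2.euler k PS (CohB1.tensorMod F (O(m))) : ℚ) = Q.eval (m : ℚ)) →
      Q.natDegree ≤ d ∧ 0 ≤ Q.coeff d := by
    intro d E F q _ hE hF P Q hPd hP hQ
    have hs := (dim_mono (support_of_seq (shortExact_ker q)).2).trans_lt (dim_le hE hPd hP)
    obtain ⟨R, hR, hRe⟩ := HilbLib.exists_poly k hamp.1 (d + 1) F hF hs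
    obtain rfl : R = Q := HilbLib.poly_eq_of_nat fun m => by rw [← hRe, chi_twist_eq, hQ, Int.cast_natCast]
    refine ⟨natDegree_le_iff_coeff_eq_zero.2 fun j hj => ?_, HilbLib.coeff_nonneg k hamp hF hR hRe⟩
    exact (degree_lt_iff_coeff_zero R (d + 1)).1 hR j (by omega)
  intro d
  induction d with
  | zero =>
    intro E F q hq hE hF hreg P Q hPd hP hQ
    haveI := hq
    obtain ⟨hQd, hQ1⟩ := hdeg 1 E F q hq hE hF P Q hPd hP hQ
    refine ⟨hQd, hQ1, ?_⟩
    have hK : Coh.IsCoh (kernel q) := (QCohLib.isCoh_kernel_cokernel q hE hF).1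
    have hS := shortExact_ker q
    have hE1 : topologicalKrullDim (CohB1.support E) ≤ ((1 : ℕ) : WithBot ℕ∞) :=
      le_of_lt_succ (dim_le hE hPd hP)
    have hFv : ∀ i : ℕ, 1 ≤ i → HT F (ρ - 1) i := fun i hi => by
      rcases Nat.lt_or_ge 1 i with h1 | h1
      · exact vanish_of_support hF ((dim_mono (support_of_seq hS).2).trans hE1) _ h1
      · obtain rfl : i = 1 := by omega
        exact HT.right hS (vanish_ge hE hreg le_rfl (by push_cast; omega))
          (vanish_of_support hK ((dim_mono (support_of_seq hS).1).trans hE1) _ (by omega))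
    have he := CurveLib.euler_eq_sum (K := k) (CohB1.tensorMod F (O(ρ - 1))) 1 fun p hp => hFv p hp
    have h := hQ (ρ - 1)
    rw [he, eval_eq_sum_range' (n := 2) (by omega)] at h
    simp only [Finset.range_one, Finset.sum_singleton, pow_zero, one_mul, Finset.sum_range_succ, mul_one, pow_one,
      Finset.range_zero, Finset.sum_empty, zero_add] at h
    simp only [Nat.factorial_zero, Nat.cast_one, one_mul, zero_add, Nat.factorial_one, Nat.cast_zero, zero_div, sub_zero]
    push_cast at h ⊢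
    nlinarith [h, (Nat.cast_nonneg _ : (0 : ℚ) ≤ (Module.finrank k (Coh.HH PS (CohB1.tensorMod F (O(ρ - 1))) 0) : ℚ))]
  | succ d ih =>
    intro E F q hq hE hF hreg P Q hPd hP hQ
    haveI := hq
    obtain ⟨hQd, hQtop⟩ := hdeg (d + 2) E F q hq hE hF P Q hPd hP hQ
    refine ⟨hQd, hQtop, ?_⟩
    obtain ⟨c, -, hcE, hcF⟩ := exists_general (n := n) hE hF (S := ⊥) bot_ne_top
    haveI := hcE
    haveI := hcF
    let q' : cokernel (linMap c E) ⟶ cokernel (linMap c F) :=
      cokernel.map (linMap c E) (linMap c F) ((CurveLib.tensR (O(-1))).map q) q (linMap_natural c q).symm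
    haveI : Epi q' := by
      haveI : Epi (cokernel.π (linMap c E) ≫ q') := by
        rw [cokernel.π_desc]
        infer_instance
      exact epi_of_epi (cokernel.π (linMap c E)) q'
    have hd' : ∀ (M : (PS).Modules) (hM : Coh.IsCoh M) (R : ℚ[X]) [Mono (linMap c M)],
        (∀ m : ℤ, (Curv2.euler k PS (CohB1.tensorMod M (O(m))) : ℚ) = R.eval (m : ℚ)) →
        ∀ m : ℤ, (Curv2.euler k PS (CohB1.tensorMod (cokernel (linMap c M)) (O(m))) : ℚ) =
          (R - R.comp (Polynomial.X - C 1)).eval (m : ℚ) := fun M hM R _ hR m => by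
      rw [euler_cokernel hM c m, Int.cast_sub, hR, hR, eval_sub, eval_comp]
      simp
    obtain ⟨hP', -, -⟩ := coeff_diff hPd
    obtain ⟨-, hQ'top, hQ'sub⟩ := coeff_diff hQd
    obtain ⟨-, -, h⟩ := ih _ _ q' inferInstance (isCoh_cokernel_linMap hE c) (isCoh_cokernel_linMap hF c)
      (regular_cokernel' hE hreg c) _ _ hP' (hd' E hE P hP) (hd' F hF Q hQ)
    rw [hQ'top, hQ'sub, Nat.cast_choose_two] at h
    rw [Nat.factorial_succ (d + 1), Nat.factorial_succ d] at *
    push_cast at h ⊢
    nlinarith [h]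

end Groth.Agent.GrothBddLib
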