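import Groth.Agent.GrothBddLib.Ladder
import Groth.Agent.GrothBddLib.SlopeBound
import Groth.Agent.BCLib.Gamma
import Groth.Agent.AmpleLib.GenLocus

/-!
# Twisted sections: exactness and counting
-/

set_option autoImplicit false
set_option backward.isDefEq.respectTransparency false
set_option linter.style.haveILetI false
set_option linter.unusedSectionVars false
set_option maxHeartbeats 400000

universe u

open CategoryTheory CategoryTheory.Limits AlgebraicGeometry Filter
open Groth.Agent.CMRegLib Groth.Agent.DCohLib Groth.Agent.PullbackMod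

noncomputable section

namespace Groth.Agent.GrothBddLib

variable {k : Type u} [Field k] {n : ℕ}

local notation "PS" => CohB1.ProjSpace n k
local notation "O(" d ")" => Twist.twistProjSpace n k d

local instance : IsProper (PS ↘ Spec (CommRingCat.of k)) := CompleteCurve.isProper_toSpec n k

/-- Global sections are degree zero cohomology. -/
def secEquiv (M : (PS).Modules) : Γ(M, ⊤) ≃ₗ[k] Coh.HH PS M 0 :=
  { RpushLib.h0Γ M with
    map_smul' := fun a x => RpushLib.h0Γ_smul M (constΓ n a) x }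

theorem exists_topLin_eq {S : ShortComplex (PS).Modules} (hS : S.ShortExact) (z : Γ(S.X₂, ⊤))
    (hz : topLin S.g z = 0) : ∃ y, topLin S.f y = z := by
  haveI := hS.mono_f
  let σ : Coh.structureModule PS ⟶ S.X₂ := DCohLib.secHom S.X₂ z
  have h1 : σ.app ⊤ (1 : Γ(CohB1.ProjSpace n k, ⊤)) = z := AmpleLib.sec_secHom z
  have h0 : σ ≫ S.g = 0 := by
    refine DCohLib.hom_unit_ext ?_
    refine (congrArg (S.g.app ⊤) h1).trans (hz.trans ?_)
    rw [Scheme.Modules.Hom.zero_app]
    rfl
  obtain ⟨φ, hφ⟩ := KernelFork.IsLimit.lift' hS.fIsKernel σ h0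
  refine ⟨φ.app ⊤ (1 : Γ(CohB1.ProjSpace n k, ⊤)), ?_⟩
  refine Eq.trans ?_ h1
  rw [← hφ]
  rfl

theorem surjective_topLin {S : ShortComplex (PS).Modules} (hS : S.ShortExact)
    [Subsingleton (Coh.HH PS S.X₁ (0 + 1))] : Function.Surjective (topLin S.g) := by
  refine (surjective_hMap_zero (k := k) S.g).1 ?_
  rw [← LinearMap.range_eq_top, CurveLib.range_hMap_g hS 0, LinearMap.ker_eq_top]
  exact LinearMap.ext fun _ => Subsingleton.elim _ _

theorem finite_sections {M : (PS).Modules} (hM : Coh.IsCoh M) : Module.Finite k Γ(M, ⊤) := by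
  haveI := EulerIneqLib.finite_HH (k := k) (X := PS) hM 0
  exact Module.Finite.equiv (secEquiv M).symm

/-- All higher cohomology of large twists vanishes. -/
theorem exists_vanish {F : (PS).Modules} (hF : Coh.IsCoh F) :
    ∃ d₀ : ℤ, ∀ d, d₀ ≤ d → ∀ p : ℕ, 0 < p → HT F d p := by
  choose d hd using fun p : Fin n => eventually_vanish hF (Nat.succ_pos (p : ℕ))
  obtain ⟨M, hM⟩ := (Set.finite_range d).bddAbove
  refine ⟨M, fun j hj p hp => ?_⟩
  rcases le_or_gt p n with h | h
  · have h' := hd ⟨p - 1, by omega⟩ j ((hM ⟨⟨p - 1, by omega⟩, rfl⟩).trans hj)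
    rwa [show ((⟨p - 1, by omega⟩ : Fin n) : ℕ).succ = p by simp; omega] at h'
  · exact vanish_high hF j h

theorem finrank_sections {F : (PS).Modules} {j : ℤ} (h : ∀ p : ℕ, 0 < p → HT F j p) {P : Polynomial ℚ}
    (hP : ∀ m : ℤ, (Curv2.euler k PS (CohB1.tensorMod F (O(m))) : ℚ) = P.eval (m : ℚ)) :
    (Module.finrank k Γ(CohB1.tensorMod F (O(j)), ⊤) : ℚ) = P.eval (j : ℚ) := by
  rw [← hP j, CurveLib.euler_eq_sum (K := k) (CohB1.tensorMod F (O(j))) 1 fun p hp => h p hp,
    (secEquiv (CohB1.tensorMod F (O(j)))).finrank_eq]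
  simp

theorem eventually_finrank {F : (PS).Modules} (hF : Coh.IsCoh F) {P : Polynomial ℚ}
    (hP : ∀ m : ℤ, (Curv2.euler k PS (CohB1.tensorMod F (O(m))) : ℚ) = P.eval (m : ℚ)) :
    ∀ᶠ t : ℕ in atTop, (Module.finrank k Γ(obj F t, ⊤) : ℚ) = P.eval (t : ℚ) := by
  obtain ⟨d₀, hd⟩ := exists_vanish hF
  filter_upwards [eventually_ge_atTop d₀.toNat] with t ht
  rw [← Int.cast_natCast t]
  exact finrank_sections (fun p hp => hd t (by omega) p hp) hP

theorem eventually_surjective {E F : (PS).Modules} (hE : Coh.IsCoh E) (hF : Coh.IsCoh F) (q : E ⟶ F) [Epi q] :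
    ∀ᶠ t : ℕ in atTop, Function.Surjective (topLin (twMap (t : ℤ) q)) := by
  haveI := isNoetherian_projSpace (k := k) (n := n)
  obtain ⟨d₀, hd⟩ := exists_vanish (QCohLib.isCoh_kernel_cokernel q hE hF).1
  filter_upwards [eventually_ge_atTop d₀.toNat] with t ht
  haveI : Subsingleton (Coh.HH PS (twSeq (ShortComplex.mk _ q (kernel.condition q)) (t : ℤ)).X₁ (0 + 1)) :=
    hd t (by omega) 1 one_pos
  exact surjective_topLin (shortExact_twSeq (shortExact_ker q) (t : ℤ))

end Groth.Agent.GrothBddLib
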