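import Groth.Agent.GrothBddLib.Complex

/-!
# The setup of a pure family at the complex points
-/

set_option autoImplicit false
set_option backward.isDefEq.respectTransparency false
set_option linter.style.haveILetI false
set_option linter.unusedSectionVars false

open CategoryTheory CategoryTheory.Limits AlgebraicGeometry Polynomial
open Groth.Agent.ShStabLib StabCat

noncomputable section

namespace Groth.Agent.GrothBddLib

variable {S X : Scheme.{0}} {n : ℕ} (i : X ⟶ CohB1.ProjSpaceOver n S) [IsClosedImmersion i]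

/-- The data of a pure fibre at a complex point. -/
theorem pt_data [IsNoetherian S] {E : X.Modules} (hE : Coh.IsCoh E) {d : ℕ} (t : Spec (CommRingCat.of ℂ) ⟶ S)
    (hdim : topologicalKrullDim (CohB1.support (FGA.ET (QuotRep.stF i) E (Over.mk t))) = (d : WithBot ℕ∞))
    (hp : ShStab.IsPure (PicF.XT (QuotRep.stF i) (Over.mk t)) (FGA.ET (QuotRep.stF i) E (Over.mk t)) d) :
    letI : (PicF.XT (QuotRep.stF i) (Over.mk t)).Over (Spec (CommRingCat.of ℂ)) :=
      ⟨PicF.XTproj (QuotRep.stF i) (Over.mk t)⟩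
    IsProper (PicF.XTproj (QuotRep.stF i) (Over.mk t)) ∧
    CohB1.IsAmple (FGA.ET (QuotRep.stF i) (QuotRep.twX i 1) (Over.mk t)) ∧
    Coh.IsCoh (FGA.ET (QuotRep.stF i) E (Over.mk t)) ∧ ¬ IsZero (FGA.ET (QuotRep.stF i) E (Over.mk t)) ∧
    ∃ P : ℚ[X], HP ℂ (FGA.ET (QuotRep.stF i) (QuotRep.twX i 1) (Over.mk t)) (FGA.ET (QuotRep.stF i) E (Over.mk t)) P ∧
      P.degree < ((d + 1 : ℕ) : WithBot ℕ) ∧ 0 < alpha d P := by
  haveI : IsProper (QuotRep.stF i) := isProper_stF i
  let Z := PicF.XT (QuotRep.stF i) (Over.mk t)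
  letI : Z.Over (Spec (CommRingCat.of ℂ)) := ⟨PicF.XTproj (QuotRep.stF i) (Over.mk t)⟩
  have hsq := IsPullback.of_hasPullback (QuotRep.stF i) t
  haveI : IsProper (Z ↘ Spec (CommRingCat.of ℂ)) := isProper_of_sq hsq
  haveI : IsLocallyNoetherian X := LocallyOfFiniteType.isLocallyNoetherian (QuotRep.stF i)
  have hamp : CohB1.IsAmple (X := Z) (FGA.ET (QuotRep.stF i) (QuotRep.twX i 1) (Over.mk t)) :=
    isAmple_of_sq hsq (QuotRep.isRelAmple_twX i)
  have hEt : Coh.IsCoh (X := Z) (FGA.ET (QuotRep.stF i) E (Over.mk t)) := isCoh_pull hsq hE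
  have h0 : ¬ IsZero (FGA.ET (QuotRep.stF i) E (Over.mk t)) := fun hz => by
    rw [HilbLib.support_eq_empty_of_isZero hz] at hdim
    haveI : IsEmpty (TopologicalSpace.IrreducibleCloseds (∅ : Set Z)) := ⟨fun c => by
      obtain ⟨z, -⟩ := c.isIrreducible.nonempty
      exact z.2⟩
    rw [topologicalKrullDim, Order.krullDim_eq_bot] at hdim
    exact WithBot.bot_ne_natCast _ hdim
  have hdE : DimLE (X := Z) d (FGA.ET (QuotRep.stF i) E (Over.mk t)) := dimLE_of_isPure hEt hp
  obtain ⟨P, hPd, hP⟩ := exists_hp ℂ hamp hEt hdE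
  exact ⟨isProper_of_sq hsq, hamp, hEt, h0, P, hP, hPd, alpha_pos_of_isPure ℂ hamp hEt h0 hp hP⟩

end Groth.Agent.GrothBddLib
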